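import Groth.Prelude.Def_LangSh
import Groth.Agent.EtpbcA.OverSite2
import Mathlib.AlgebraicGeometry.Morphisms.Immersion

/-!
# Sheaves constant on an étale cover are constructible

* `isConstOn_pullback`: base change of `LangSh.IsConstOn`.
* `isFTLC_of_isConstOn`, `isConstructible_of_isConstOn`: a `Λ`-sheaf constant on an étale cover is
  finite type locally constant, constructible.
* `isFiniteLocallyConstant_of_isConstOn`: (`Λ` finite) the underlying abelian sheaf is finite locally constant.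
-/

set_option autoImplicit false
universe u
open CategoryTheory CategoryTheory.Limits AlgebraicGeometry Opposite

namespace Groth.Agent.Sga4h.H931.ConstOn

open Groth.Agent.EtpbcA Groth.Agent.EtpbcA.OverSite Groth.Agent.EtpbcA.OverSite2

variable {Λ : Type} [CommRing Λ]

theorem sq3 {C : Type*} [Category C] {A₁ A₂ A₃ A₄ : C} {a : A₁ ⟶ A₁} {b : A₂ ⟶ A₂} {c : A₃ ⟶ A₃}
    {d : A₄ ⟶ A₄} {f : A₁ ⟶ A₂} {g : A₂ ⟶ A₃} {h : A₃ ⟶ A₄} (h1 : a ≫ f = f ≫ b) (h2 : b ≫ g = g ≫ c)
    (h3 : c ≫ h = h ≫ d) : a ≫ (f ≫ g ≫ h) = (f ≫ g ≫ h) ≫ d := by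
  rw [← Category.assoc, h1, Category.assoc, ← Category.assoc b, h2, Category.assoc, h3]
  simp only [Category.assoc]

theorem isConstOn_pullback {X Y X' Y' : Scheme.{u}} (π : Y ⟶ X) (g : X' ⟶ X) (π' : Y' ⟶ X')
    (g' : Y' ⟶ Y) (w : g' ≫ π = π' ≫ g) (L : EtLam.Sheaf Λ X) (h : LangSh.IsConstOn π L) :
    LangSh.IsConstOn π' (EtLam.pullback g L) := by
  obtain ⟨e, he⟩ := h
  let α : EtCoh.pull g ⋙ EtCoh.pull π' ≅ EtCoh.pull π ⋙ EtCoh.pull g' :=
    (EtCore.pullComp π' g).symm ≪≫ EtCore.pullCongr w.symm ≪≫ EtCore.pullComp g' π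
  refine ⟨α.app L.carrier ≪≫ (EtCoh.pull g').mapIso e ≪≫ EtCore.pullConst g' Λ, fun r => ?_⟩
  have h1 : (EtCoh.pull π').map ((EtLam.pullback g L).act r) ≫ α.hom.app L.carrier =
      α.hom.app L.carrier ≫ (EtCoh.pull g').map ((EtCoh.pull π).map (L.act r)) :=
    α.hom.naturality (L.act r)
  have h2 : (EtCoh.pull g').map (FinFr.constSMul Y r) ≫ (EtCore.pullConst g' Λ).hom =
      (EtCore.pullConst g' Λ).hom ≫ FinFr.constSMul Y' r :=
    (EtCore.pullConstIso g').hom.naturality _
  have h3 : (EtCoh.pull g').map ((EtCoh.pull π).map (L.act r)) ≫ (EtCoh.pull g').map e.hom =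
      (EtCoh.pull g').map e.hom ≫ (EtCoh.pull g').map (FinFr.constSMul Y r) := by
    rw [← Functor.map_comp, ← Functor.map_comp]
    exact congrArg (EtCoh.pull g').map (he r)
  exact sq3 h1 h3 h2

theorem isFTLC_of_isConstOn {X Y : Scheme.{u}} (π : Y ⟶ X) [Etale π] [Surjective π]
    (L : EtLam.Sheaf Λ X) (h : LangSh.IsConstOn π L) : EtLam.IsFTLC L := by
  obtain ⟨e, he⟩ := h
  let V : X.Etale := Scheme.Etale.mk π
  refine ⟨PUnit, fun _ => V, fun x => ⟨PUnit.unit, π.surjective x⟩, fun _ => ?_⟩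
  let e1 : EtCoh.restr L.carrier V ≅ EtPBC.constOver V Λ :=
    ((pullTransportIso V).app L.carrier).symm ≪≫ (transport V).mapIso e ≪≫
      ((constTransportIso V).app (AddCommGrpCat.of (ULift.{u + 1} Λ))).symm
  refine ⟨Λ, inferInstance, inferInstance, inferInstance, e1, fun r => ?_⟩
  have h1 : (X.smallEtaleTopology.overPullback AddCommGrpCat.{u + 1} V).map (L.act r) ≫
      (pullTransportIso V).inv.app L.carrier =
      (pullTransportIso V).inv.app L.carrier ≫ (transport V).map ((EtCoh.pull (str V)).map (L.act r)) :=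
    (pullTransportIso V).inv.naturality (L.act r)
  have h2 : (transport V).map ((EtCoh.pull (str V)).map (L.act r)) ≫ (transport V).map e.hom =
      (transport V).map e.hom ≫ (transport V).map (FinFr.constSMul Y r) := by
    rw [← Functor.map_comp, ← Functor.map_comp]
    exact congrArg (transport V).map (he r)
  have h3 : (transport V).map (FinFr.constSMul Y r) ≫
      (constTransportIso V).inv.app (AddCommGrpCat.of (ULift.{u + 1} Λ)) =
      (constTransportIso V).inv.app (AddCommGrpCat.of (ULift.{u + 1} Λ)) ≫ EtLam.constOverAct V Λ r :=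
    (constTransportIso V).inv.naturality _
  exact sq3 h1 h2 h3

theorem isConstructible_of_isConstOn {X Y : Scheme.{u}} (π : Y ⟶ X) [Etale π] [Surjective π]
    (L : EtLam.Sheaf Λ X) (h : LangSh.IsConstOn π L) : EtLam.IsConstructible L := by
  intro U _
  refine ⟨1, fun _ => U, fun _ => U.ι, fun _ => inferInstance, fun _ => ?_, ?_, ?_, fun _ _ => ?_⟩
  · rw [Scheme.Opens.range_ι, Subtype.coe_preimage_self]
    exact Topology.IsConstructible.univ
  · intro i j hij
    exact absurd (Subsingleton.elim i j) hij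
  · rw [Set.iUnion_const, Scheme.Opens.range_ι]
  · exact isFTLC_of_isConstOn (pullback.snd π U.ι) _
      (isConstOn_pullback π U.ι (pullback.snd π U.ι) (pullback.fst π U.ι) pullback.condition L h)

theorem isFiniteLocallyConstant_of_isConstOn [Finite Λ] {X Y : Scheme.{u}} (π : Y ⟶ X) [Etale π]
    [Surjective π] (L : EtLam.Sheaf Λ X) (h : LangSh.IsConstOn π L) :
    EtCoh.IsFiniteLocallyConstant L.carrier := by
  obtain ⟨e, -⟩ := h
  rw [isFLC_iff_pull]
  exact ⟨PUnit, fun _ => Scheme.Etale.mk π, fun x => ⟨PUnit.unit, π.surjective x⟩, fun _ =>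
    ⟨Λ, inferInstance, inferInstance, ⟨e⟩⟩⟩

end Groth.Agent.Sga4h.H931.ConstOn
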