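import Groth.Agent.Sga4h.H931.GalTr

/-!
# Local traces of Frobenius computed on `Spec K`, rational points of affine schemes

* `locTrace_eq`: `FinFr.locTrace` computed on `Spec K`.
* `locTrace_transfer`: independence of the base field up to isomorphism.
* `locTrace_of_hasTraceFun`: the trace function at rational points over the base field.
-/

set_option autoImplicit false
universe u
open CategoryTheory CategoryTheory.Limits AlgebraicGeometry Opposite
open CategoryTheory.Abelian

namespace Groth.Agent.Sga4h.H931.LocTr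

open Groth.Agent.Sga4h.H931.GalTr

variable {Λ : Type} [CommRing Λ]

set_option linter.unusedSectionVars false
set_option linter.style.haveILetI false

section

variable {k : Type u} [Field k] [Fintype k] {K : Type u} [Field K] [Algebra k K] [Algebra.IsAlgebraic k K]
  [Fact FinFr.PullExact.{u}]

theorem locTrace_eq {X₀ : Scheme.{u}} (x : Spec (CommRingCat.of k) ⟶ X₀) (L : EtLam.Sheaf Λ X₀)
    (y : Spec (CommRingCat.of K) ⟶ X₀) (hy : FinFr.specι k K ≫ x = y) (φ : K →+* K)
    (hφ : φ = ((FinFr.arith k K).symm : K →+* K)) (w : Spec.map (CommRingCat.ofHom φ) ≫ y = y) :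
    FinFr.locTrace (K := K) x L =
      LinearMap.trace Λ _ (viaLin (Spec.map (CommRingCat.ofHom φ)) y y w L 0) := by
  subst hφ hy
  have w1 : FinFr.galAct (𝟙 _) (FinFr.arith k K).symm ≫ FinFr.extπ K (𝟙 _) ≫ x = FinFr.extπ K (𝟙 _) ≫ x := by
    rw [← Category.assoc, FinFr.galAct_fst]
  have h1 := trace_viaLin_pull (FinFr.galAct (𝟙 _) (FinFr.arith k K).symm) (FinFr.extπ K (𝟙 _)) x
    (FinFr.galAct_fst _ _) w1 L 0
  have h2 := trace_viaLin_iso (FinFr.extStr K (𝟙 (Spec (CommRingCat.of k))))
    (FinFr.galAct (𝟙 _) (FinFr.arith k K).symm) (Spec.map (CommRingCat.ofHom ((FinFr.arith k K).symm : K →+* K)))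
    (FinFr.galAct_snd _ _) (FinFr.extπ K (𝟙 _) ≫ x) (FinFr.specι k K ≫ x)
    (by rw [← Category.assoc, ← pullback.condition, Category.comp_id]) w1 w L 0
  exact h1.trans h2

end

theorem arith_symm_eq {k k' K : Type u} [Field k] [Fintype k] [Field k'] [Fintype k'] [Field K] [Algebra k K]
    [Algebra k' K] [Algebra.IsAlgebraic k K] [Algebra.IsAlgebraic k' K] (h : Fintype.card k = Fintype.card k') :
    ((FinFr.arith k K).symm : K →+* K) = ((FinFr.arith k' K).symm : K →+* K) := by
  ext z
  change (FinFr.arith k K).symm z = (FinFr.arith k' K).symm z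
  rw [AlgEquiv.symm_apply_eq]
  have h1 : FinFr.arith k' K ((FinFr.arith k' K).symm z) = z := AlgEquiv.apply_symm_apply _ _
  have h2 : ∀ w : K, FinFr.arith k' K w = FinFr.arith k K w := fun w => by
    change w ^ Fintype.card k' = w ^ Fintype.card k
    rw [h]
  rw [← h2, h1]

/-- Independence of the base field. -/
theorem locTrace_transfer {k k' K : Type u} [Field k] [Fintype k] [Field k'] [Fintype k'] [Field K] [Algebra k K]
    [Algebra k' K] [Algebra.IsAlgebraic k K] [Algebra.IsAlgebraic k' K] [Fact FinFr.PullExact.{u}]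
    (h : Fintype.card k = Fintype.card k') {X₀ : Scheme.{u}} (x : Spec (CommRingCat.of k) ⟶ X₀)
    (x' : Spec (CommRingCat.of k') ⟶ X₀) (hx : FinFr.specι k K ≫ x = FinFr.specι k' K ≫ x') (L : EtLam.Sheaf Λ X₀) :
    FinFr.locTrace (K := K) x L = FinFr.locTrace (K := K) x' L := by
  have w : Spec.map (CommRingCat.ofHom ((FinFr.arith k K).symm : K →+* K)) ≫ FinFr.specι k K ≫ x =
      FinFr.specι k K ≫ x := by
    rw [← Category.assoc, FinFr.specMap_algEquiv_comp_specι]
  rw [locTrace_eq x L _ rfl _ rfl w, locTrace_eq x' L _ hx.symm _ (arith_symm_eq h) w]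

section Alg

variable {k : Type u} [Field k] [Fintype k] {K : Type u} [Field K] [Algebra k K] [Algebra.IsAlgebraic k K]
variable [Fact FinFr.PullExact.{u}]
variable {R : Type u} [CommRing R] [Algebra k R]

/-- A `k`-point as a point with values in the bottom intermediate field. -/
noncomputable def toBot (K : Type u) [Field K] [Algebra k K] (x : R →ₐ[k] k) : R →ₐ[k] (⊥ : IntermediateField k K) :=
  ((IntermediateField.botEquiv k K).symm : k →ₐ[k] _).comp x

theorem coe_toBot (x : R →ₐ[k] k) (r : R) : ((toBot K x r : (⊥ : IntermediateField k K)) : K) = algebraMap k K (x r) := by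
  change ((((IntermediateField.botEquiv k K).symm (x r) : (⊥ : IntermediateField k K))) : K) = _
  rw [IntermediateField.botEquiv_symm]
  rfl

/-- The trace function at rational points over the base field. -/
theorem locTrace_of_hasTraceFun (L : EtLam.Sheaf Λ (Spec (CommRingCat.of R)))
    (t : ∀ E : IntermediateField k K, (R →ₐ[k] E) → Λ) (hL : LangSh.HasTraceFun k K L t) (x : R →ₐ[k] k) :
    FinFr.locTrace (K := K) (LangSh.pt x) L = t ⊥ (toBot K x) := by
  classical
  letI : Fintype (⊥ : IntermediateField k K) :=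
    Fintype.ofEquiv k (IntermediateField.botEquiv k K).symm.toEquiv
  haveI : Algebra.IsAlgebraic (⊥ : IntermediateField k K) K := Algebra.IsAlgebraic.tower_top (K := k) _
  rw [← hL ⊥ (toBot K x)]
  refine locTrace_transfer (Fintype.card_congr (IntermediateField.botEquiv k K).symm.toEquiv) _ _ ?_ L
  rw [FinFr.specι, FinFr.specι, LangSh.pt, LangSh.pt, ← Spec.map_comp, ← Spec.map_comp]
  have : (CommRingCat.ofHom x.toRingHom ≫ CommRingCat.ofHom (algebraMap k K)) =
      (CommRingCat.ofHom (toBot K x).toRingHom ≫ CommRingCat.ofHom (algebraMap (⊥ : IntermediateField k K) K)) := by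
    ext r
    exact (coe_toBot x r).symm
  rw [this]

/-- Rational points of an affine scheme. -/
noncomputable def ratPtEquiv : (R →ₐ[k] k) ≃ FinFr.RatPt (Spec.map (CommRingCat.ofHom (algebraMap k R))) where
  toFun x := ⟨LangSh.pt x, by
    rw [LangSh.pt, ← Spec.map_comp, ← CommRingCat.ofHom_comp, show x.toRingHom.comp (algebraMap k R) = RingHom.id k from
      RingHom.ext fun a => x.commutes a]
    exact Spec.map_id _⟩
  invFun y :=
    { (Spec.preimage y.1).hom with
      commutes' := fun a => by
        have h : Spec.map (CommRingCat.ofHom (algebraMap k R) ≫ Spec.preimage y.1) = Spec.map (𝟙 (CommRingCat.of k)) := by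
          rw [Spec.map_comp, Spec.map_preimage, Spec.map_id]
          exact y.2
        have h2 := Spec.map_injective h
        exact congrArg (fun f => f.hom a) h2 }
  left_inv x := by
    ext r
    change (Spec.preimage (Spec.map (CommRingCat.ofHom x.toRingHom))).hom r = x r
    rw [Spec.preimage_map]
    rfl
  right_inv y := by
    apply Subtype.ext
    change Spec.map (CommRingCat.ofHom (Spec.preimage y.1).hom) = y.1
    exact Spec.map_preimage y.1

theorem finsum_ratPt {M : Type*} [AddCommMonoid M] (f : (Spec (CommRingCat.of k) ⟶ Spec (CommRingCat.of R)) → M) :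
    ∑ᶠ x : FinFr.RatPt (Spec.map (CommRingCat.ofHom (algebraMap k R))), f x.1 =
      ∑ᶠ x : R →ₐ[k] k, f (LangSh.pt x) :=
  (finsum_comp_equiv (f := fun x : FinFr.RatPt (Spec.map (CommRingCat.ofHom (algebraMap k R))) => f x.1) ratPtEquiv).symm

end Alg

end Groth.Agent.Sga4h.H931.LocTr
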