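import Groth.Agent.Sga4h.H931.Tow

/-!
# Cohomology with compact supports of the Jacobi variety

`JacGeo D N`: the geometry of the varieties `Y = V(1 + Σ z_i) ⊂ X = X_N`, `𝔸¹ × X`, `G × X ≅ X_{N+1}`.
* `hc_jac`: `⊗ F_{χ_i}(z_i)` on `Y` has one-dimensional cohomology, in degree `N - 1`, if some `χ_i ≠ 1`.
-/

set_option autoImplicit false
universe u
open CategoryTheory CategoryTheory.Limits AlgebraicGeometry Opposite MonoidalCategory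

namespace Groth.Agent.Sga4h.H931.Geom

open scoped Groth.Agent.Sga5.H835.MonEt
open Groth.Agent.Sga4h.H299 Groth.Agent.Sga4h.H918 Groth.Agent.Sga4h.H931.Pic Groth.Agent.Sga4h.H931.Rk
  Groth.Agent.Sga4h.H931.HcCls Groth.Agent.Sga4h.H931.HcKun Groth.Agent.Sga4h.H931.Tow

/-- The function `1 + Σ z_i`. -/
noncomputable def sig {K : Type u} [Field K] (D : Tow K) (N : ℕ) : Γ(D.X N, ⊤) := 1 + ∑ i, (D.z N i : Γ(D.X N, ⊤))

/-- The geometry of the Jacobi variety. -/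
structure JacGeo {K : Type u} [Field K] (D : Tow K) (N : ℕ) where
  /-- the affine line -/
  A₁ : Scheme.{u}
  /-- structure morphism -/
  aA : A₁ ⟶ Spec (CommRingCat.of K)
  /-- coordinate -/
  T : Γ(A₁, ⊤)
  /-- the product `𝔸¹ × X` -/
  Z : Scheme.{u}
  /-- structure morphism -/
  e : Z ⟶ Spec (CommRingCat.of K)
  /-- first projection -/
  p1 : Z ⟶ A₁
  /-- second projection -/
  p2 : Z ⟶ D.X N
  we : p2 ≫ D.a N = e
  /-- the Jacobi variety -/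
  Y : Scheme.{u}
  /-- structure morphism -/
  aY : Y ⟶ Spec (CommRingCat.of K)
  /-- inclusion -/
  i : Y ⟶ D.X N
  wi : i ≫ D.a N = aY
  hσ : i.appTop.hom (sig D N) = 0
  /-- `𝔸¹ × Y` -/
  ZY : Scheme.{u}
  /-- structure morphism -/
  eY : ZY ⟶ Spec (CommRingCat.of K)
  /-- inclusion -/
  iZ : ZY ⟶ Z
  /-- projection -/
  qY : ZY ⟶ Y
  wZY : iZ ≫ e = eY
  hiZ : IsClosedImmersion iZ
  sqY : IsPullback (iZ ≫ p1) qY aA aY
  wY : iZ ≫ p2 = qY ≫ i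
  /-- `D(σ)` -/
  DD : Scheme.{u}
  /-- structure morphism -/
  aD : DD ⟶ Spec (CommRingCat.of K)
  /-- inclusion -/
  oD : DD ⟶ D.X N
  wDD : oD ≫ D.a N = aD
  /-- `𝔸¹ × D(σ)` -/
  ZD : Scheme.{u}
  /-- structure morphism -/
  eD : ZD ⟶ Spec (CommRingCat.of K)
  /-- inclusion -/
  oZ : ZD ⟶ Z
  wZD : oZ ≫ e = eD
  hoZ : IsOpenImmersion oZ
  qoZ : QuasiCompact oZ
  rD : Set.range oZ = (Set.range iZ)ᶜ
  /-- projection -/
  qD : ZD ⟶ DD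
  /-- twisted first projection -/
  r1 : ZD ⟶ A₁
  sqD : IsPullback r1 qD aA aD
  wD : oZ ≫ p2 = qD ≫ oD
  hr1 : r1.appTop.hom T = oZ.appTop.hom (p1.appTop.hom T * p2.appTop.hom (sig D N))
  /-- zero section -/
  s : D.X N ⟶ Z
  hs : IsClosedImmersion s
  ws : s ≫ p2 = 𝟙 _
  hs0 : s.appTop.hom (p1.appTop.hom T) = 0
  /-- `G × X` -/
  ZG : Scheme.{u}
  /-- structure morphism -/
  eG : ZG ⟶ Spec (CommRingCat.of K)
  /-- inclusion -/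
  oG : ZG ⟶ Z
  hoG : IsOpenImmersion oG
  qoG : QuasiCompact oG
  wG : oG ≫ e = eG
  rG : Set.range oG = (Set.range s)ᶜ
  /-- `G × X ≅ X_{N+1}` -/
  φ : ZG ⟶ D.X (N + 1)
  hφ : IsIso φ
  wφ : φ ≫ D.a (N + 1) = eG
  φ0 : φ.appTop.hom (D.z (N + 1) 0 : Γ(D.X (N + 1), ⊤)) = oG.appTop.hom (p1.appTop.hom T)
  φS : ∀ i : Fin N, φ.appTop.hom (D.z (N + 1) i.succ : Γ(D.X (N + 1), ⊤)) =
    oG.appTop.hom (p1.appTop.hom T) * oG.appTop.hom (p2.appTop.hom (D.z N i : Γ(D.X N, ⊤)))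
  gA : Good aA
  gZ : Good e
  gY : Good aY
  gD : Good aD

attribute [instance] JacGeo.hiZ JacGeo.hoZ JacGeo.qoZ JacGeo.hs JacGeo.hoG JacGeo.qoG JacGeo.hφ JacGeo.gA
  JacGeo.gZ JacGeo.gY JacGeo.gD

variable {k : Type u} [Field k] [Fintype k] {K : Type u} [Field K] [Algebra k K] [IsSepClosed K]
variable {Λ : Type (u + 1)} [Field Λ] [Finite Λ] {D : Tow K} {N : ℕ} (J : JacGeo D N)

theorem comp_app {X Y Z : Scheme.{u}} (f : X ⟶ Y) (g : Y ⟶ Z) (s : Γ(Z, ⊤)) :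
    (f ≫ g).appTop.hom s = f.appTop.hom (g.appTop.hom s) := by
  rw [Scheme.Hom.comp_appTop]
  rfl

theorem gYY : Good J.eY := good_comp_closed J.iZ J.e J.eY J.wZY
theorem gDD : Good J.eD := good_comp_open J.oZ J.e J.eD J.wZD
theorem gGG : Good J.eG := good_comp_open J.oG J.e J.eG J.wG

/-- The class on `𝔸¹ × X`. -/
noncomputable def cc (ψ : Multiplicative k →* Λˣ) (χ : Fin N → (kˣ →* Λˣ)) : Pc Λ J.Z :=
  A J.e ψ (J.p1.appTop.hom J.T * J.p2.appTop.hom (sig D N)) * pb J.p2 (BS D N χ)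

variable (ψ : Multiplicative k →* Λˣ) (χ : Fin N → (kˣ →* Λˣ))

theorem pb_s : pb J.s (cc J ψ χ) = BS D N χ := by
  unfold cc
  have hw : J.s ≫ J.e = D.a N := by rw [← J.we, ← Category.assoc, J.ws, Category.id_comp]
  rw [map_mul, pb_A J.e ψ (D.a N) J.s hw, map_mul, J.hs0, zero_mul, A_zero, one_mul, ← pb_comp, J.ws, pb_id]

theorem pb_iZ : pb J.iZ (cc J ψ χ) = pb (J.iZ ≫ J.p1) 1 * pb J.qY (pb J.i (BS D N χ)) := by
  unfold cc
  rw [map_mul, pb_A J.e ψ J.eY J.iZ J.wZY, map_mul, ← comp_app J.iZ J.p2, J.wY, comp_app, J.hσ, map_zero, mul_zero,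
    A_zero, map_one, ← pb_comp, J.wY, pb_comp]

theorem wr1 : J.r1 ≫ J.aA = J.eD := by
  rw [J.sqD.w, ← J.wDD, ← Category.assoc, ← J.wD, Category.assoc, J.we, J.wZD]

theorem wqD : J.qD ≫ J.aD = J.eD := J.sqD.w.symm.trans (wr1 J)

theorem wqY : J.qY ≫ J.aY = J.eY := by
  rw [← J.wi, ← Category.assoc, ← J.wY, Category.assoc, J.we, J.wZY]

theorem pb_oZ : pb J.oZ (cc J ψ χ) = pb J.r1 (A J.aA ψ J.T) * pb J.qD (pb J.oD (BS D N χ)) := by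
  unfold cc
  rw [map_mul, pb_A J.e ψ J.eD J.oZ J.wZD, ← J.hr1, ← pb_A J.aA ψ J.eD J.r1 (wr1 J), ← pb_comp, J.wD, pb_comp]

/-- The unit `t` on `G × X`. -/
noncomputable def tU : Γ(J.ZG, ⊤)ˣ := Units.map J.φ.appTop.hom (D.z (N + 1) 0)

/-- The units `z_i` on `G × X`. -/
noncomputable def zU (i : Fin N) : Γ(J.ZG, ⊤)ˣ := Units.map (J.oG ≫ J.p2).appTop.hom (D.z N i)

theorem φ_succ (i : Fin N) : Units.map J.φ.appTop.hom (D.z (N + 1) i.succ) = tU J * zU J i := by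
  apply Units.ext
  change J.φ.appTop.hom (D.z (N + 1) i.succ : Γ(D.X (N + 1), ⊤)) =
    J.φ.appTop.hom (D.z (N + 1) 0 : Γ(D.X (N + 1), ⊤)) * (J.oG ≫ J.p2).appTop.hom (D.z N i : Γ(D.X N, ⊤))
  rw [J.φS, J.φ0, comp_app]

theorem pb_oG : pb J.oG (cc J ψ χ) =
    pb J.φ (AS D ψ (N + 1) * BS D (N + 1) (Fin.cons (∏ i, χ i)⁻¹ χ : Fin (N + 1) → (kˣ →* Λˣ))) := by
  have h1 : pb J.φ (AS D ψ (N + 1)) = A J.eG ψ (J.oG.appTop.hom (J.p1.appTop.hom J.T * J.p2.appTop.hom (sig D N))) := by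
    unfold AS
    rw [pb_A (D.a (N + 1)) ψ J.eG J.φ J.wφ]
    congr 1
    rw [map_sum, Fin.sum_univ_succ, J.φ0]
    simp only [J.φS]
    unfold sig
    rw [map_mul, map_add, map_one, map_sum, map_add, map_one, map_sum, ← Finset.mul_sum]
    ring
  have h2 : pb J.φ (BS D (N + 1) (Fin.cons (∏ i, χ i)⁻¹ χ : Fin (N + 1) → (kˣ →* Λˣ))) =
      pb J.oG (pb J.p2 (BS D N χ)) := by
    have hw : (J.oG ≫ J.p2) ≫ D.a N = J.eG := by rw [Category.assoc, J.we, J.wG]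
    rw [← pb_comp]
    unfold BS
    rw [map_prod, map_prod, Fin.prod_univ_succ]
    simp only [pb_B (D.a (N + 1)) _ J.eG J.φ J.wφ, pb_B (D.a N) _ J.eG (J.oG ≫ J.p2) hw, φ_succ, B_mul,
      Finset.prod_mul_distrib, Fin.cons_zero, Fin.cons_succ]
    have h3 : Units.map J.φ.appTop.hom (D.z (N + 1) 0) = tU J := rfl
    rw [h3, ← B_prod, ← mul_assoc, B_char_inv, one_mul]
    rfl
  rw [map_mul, h1, h2]
  unfold cc
  rw [map_mul, pb_A J.e ψ J.eG J.oG J.wG]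

include J in
/-- **Cohomology of the Jacobi variety**. -/
theorem hc_jac (ψ : Multiplicative k →* Λˣ)
    (hI1 : ∀ m, hc J.aA (A J.aA ψ J.T) m = 1)
    (hI2 : ∀ χ : kˣ →* Λˣ, χ ≠ 1 → ∀ m, hc D.aG (B D.aG χ D.t) m = 1)
    (hI3 : ∀ (χ : kˣ →* Λˣ) (m : ℕ), hc D.aG (A D.aG ψ D.t * B D.aG χ D.t) m = if m = 1 then Nat.card Λ else 1)
    (hI4 : ∀ m, hc J.aA (1 : Pc Λ J.A₁) m = if m = 2 then Nat.card Λ else 1)
    (χ : Fin N → (kˣ →* Λˣ)) (hχ : ∃ i, χ i ≠ 1) (m : ℕ) :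
    hc J.aY (∏ i, B J.aY (χ i) (Units.map J.i.appTop.hom (D.z N i))) m = if m + 1 = N then Nat.card Λ else 1 := by
  have := gYY J
  have := gDD J
  have := gGG J
  have e0 : (∏ i, B J.aY (χ i) (Units.map J.i.appTop.hom (D.z N i))) = pb J.i (BS D N χ) := by
    unfold BS
    rw [map_prod]
    exact Finset.prod_congr rfl fun i _ => (pb_B (D.a N) (χ i) J.aY J.i J.wi _).symm
  have e1 : hc J.eG (pb J.oG (cc J ψ χ)) (m + 2) = if m + 1 = N then Nat.card Λ else 1 := by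
    rw [pb_oG, hc_iso (D.a (N + 1)) J.eG J.φ J.wφ, hc_top D ψ hI3]
    simp only [show (m + 2 = N + 1) = (m + 1 = N) from propext (by omega)]
  have e2 : hc J.eG (pb J.oG (cc J ψ χ)) (m + 2) = hc J.e (cc J ψ χ) (m + 2) :=
    hc_open J.oG J.s J.e J.eG (D.a N) J.wG (by rw [← J.we, ← Category.assoc, J.ws, Category.id_comp]) J.rG _
      (fun q => by rw [pb_s, hc_zero D hI2 N χ hχ]) (m + 2)
  have e3 : hc J.e (cc J ψ χ) (m + 2) = hc J.eY (pb J.iZ (cc J ψ χ)) (m + 2) :=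
    hc_closed J.oZ J.iZ J.e J.eD J.eY J.wZD J.wZY J.rD _ (fun q => by
      rw [pb_oZ]
      exact hc_kun_zero J.aA J.aD J.eD J.r1 J.qD J.sqD (wqD J) _ _ ((isUnit_BS D N χ).map (pb J.oD)) hI1 q) (m + 2)
  have h2 := hI4 2
  rw [if_pos rfl] at h2
  have e4 : hc J.eY (pb J.iZ (cc J ψ χ)) (m + 2) = hc J.aY (pb J.i (BS D N χ)) m ^ 1 := by
    rw [pb_iZ]
    exact hc_kun J.aA J.aY J.eY (J.iZ ≫ J.p1) J.qY J.sqY (wqY J) _ _ ((isUnit_BS D N χ).map (pb J.i)) 2 1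
      (fun q hq => by rw [hI4, if_neg hq]) (by rw [h2, pow_one]) m
  rw [e0, ← pow_one (hc J.aY (pb J.i (BS D N χ)) m), ← e4, ← e3, ← e2, e1]

end Groth.Agent.Sga4h.H931.Geom
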