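import Groth.Agent.Sga4h.H127.TowK
import Groth.Agent.Sga4h.H768.JacHalf
import Groth.Agent.Sga4h.H931.Geom

/-!
# The geometry of the Jacobi variety over a field
-/

set_option autoImplicit false

universe u

open CategoryTheory CategoryTheory.Limits AlgebraicGeometry
open scoped BigOperators Polynomial LaurentPolynomial

namespace Groth.Agent.Sga4h.H931.JacKH

open Groth.Agent.Sga4h.H127 Groth.Agent.Sga4h.H768.SigHalf Groth.Agent.Sga4h.H768.JacHalf
open Groth.Agent.Sga4h.H931.KumDom (JacAlg xc)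
open Groth.Agent.Sga4h.H931

variable (K : Type u) [Field K] (N : ℕ)

/-- `𝔸¹ × X` -/
noncomputable abbrev ZZ : Scheme.{u} := pullback (strS K K[X]) (strS K (TorAlg K N))

/-- first projection -/
noncomputable abbrev P1 : ZZ K N ⟶ Spec (CommRingCat.of K[X]) := pullback.fst _ _

/-- second projection -/
noncomputable abbrev P2 : ZZ K N ⟶ Spec (CommRingCat.of (TorAlg K N)) := pullback.snd _ _

theorem sqZ : IsPullback (P1 K N) (P2 K N) (strS K K[X]) (strS K (TorAlg K N)) := IsPullback.of_hasPullback _ _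

/-- structure morphism -/
noncomputable abbrev eZ : ZZ K N ⟶ Spec (CommRingCat.of K) := P2 K N ≫ strS K (TorAlg K N)

/-- zero section -/
noncomputable def sZ : Spec (CommRingCat.of (TorAlg K N)) ⟶ ZZ K N :=
  (exists_zero_open (strS K (TorAlg K N))).choose

/-- inclusion of `𝔾_m × X` -/
noncomputable def oGZ : pullback (strS K K[T;T⁻¹]) (strS K (TorAlg K N)) ⟶ ZZ K N :=
  (exists_zero_open (strS K (TorAlg K N))).choose_spec.choose

theorem spec_sZ : IsClosedImmersion (sZ K N) ∧ sZ K N ≫ P2 K N = 𝟙 _ ∧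
    (sZ K N).appTop.hom ((P1 K N).appTop.hom (sp (Polynomial.X : K[X]))) = 0 ∧
    IsOpenImmersion (oGZ K N) ∧ QuasiCompact (oGZ K N) ∧ oGZ K N ≫ P2 K N = pullback.snd _ _ ∧
    oGZ K N ≫ P1 K N = pullback.fst _ _ ≫ gm K ∧
    (oGZ K N).appTop.hom ((P1 K N).appTop.hom (sp (Polynomial.X : K[X]))) =
      (pullback.fst (strS K K[T;T⁻¹]) (strS K (TorAlg K N))).appTop.hom (sp (LaurentPolynomial.T 1 : K[T;T⁻¹])) ∧
    Set.range (oGZ K N) = (Set.range (sZ K N))ᶜ :=
  (exists_zero_open (strS K (TorAlg K N))).choose_spec.choose_spec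

/-- twisted projection -/
noncomputable def r1Z : pullback (P2 K N) (oS (sT K N)) ⟶ Spec (CommRingCat.of K[X]) :=
  (exists_twist (sT K N) (sqZ K N) (rep_A1 K)).choose

theorem spec_r1 : IsPullback (r1Z K N) (pullback.snd (P2 K N) (oS (sT K N))) (strS K K[X])
      (oS (sT K N) ≫ strS K (TorAlg K N)) ∧
      (r1Z K N).appTop.hom (sp (Polynomial.X : K[X])) =
        (pullback.fst (P2 K N) (oS (sT K N))).appTop.hom ((P1 K N).appTop.hom (sp (Polynomial.X : K[X])) *
          (P2 K N).appTop.hom (sp (sT K N))) :=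
  (exists_twist (sT K N) (sqZ K N) (rep_A1 K)).choose_spec

/-- The twisted product. -/
noncomputable def phiZ : pullback (strS K K[T;T⁻¹]) (strS K (TorAlg K N)) ⟶ Spec (CommRingCat.of (TorAlg K (N + 1))) :=
  (exists_phi K N).choose

theorem spec_phi : IsIso (phiZ K N) ∧ phiZ K N ≫ strS K (TorAlg K (N + 1)) = pullback.snd _ _ ≫ strS K (TorAlg K N) ∧
    (phiZ K N).appTop.hom (sp (tc K (N + 1) 0)) =
      (pullback.fst (strS K K[T;T⁻¹]) (strS K (TorAlg K N))).appTop.hom (sp (LaurentPolynomial.T 1 : K[T;T⁻¹])) ∧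
    ∀ i : Fin N, (phiZ K N).appTop.hom (sp (tc K (N + 1) i.succ)) =
      (pullback.fst (strS K K[T;T⁻¹]) (strS K (TorAlg K N))).appTop.hom (sp (LaurentPolynomial.T 1 : K[T;T⁻¹])) *
        (pullback.snd (strS K K[T;T⁻¹]) (strS K (TorAlg K N))).appTop.hom (sp (tc K N i)) :=
  (exists_phi K N).choose_spec

theorem sig_eq : Geom.sig (towK K) N = sp (sT K N) := (sp_sT K N).symm

theorem good_comp {X Y S : Scheme.{u}} (f : X ⟶ Y) (g : Y ⟶ S) (hf : HcCls.Good f) (hg : HcCls.Good g) :
    HcCls.Good (f ≫ g) := by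
  have := hf.sep
  have := hf.qc
  have := hf.ft
  have := hg.sep
  have := hg.qc
  have := hg.ft
  exact ⟨inferInstance, inferInstance, inferInstance⟩

/-- The geometry of the Jacobi variety. -/
noncomputable def jacK : Geom.JacGeo (towK K) N where
  A₁ := Spec (CommRingCat.of K[X])
  aA := strS K K[X]
  T := sp (Polynomial.X : K[X])
  Z := ZZ K N
  e := eZ K N
  p1 := P1 K N
  p2 := P2 K N
  we := rfl
  Y := Spec (CommRingCat.of (JacAlg K N))
  aY := strS K (JacAlg K N)
  i := iJ K N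
  wi := iJ_str K N
  hσ := by
    rw [sig_eq]
    exact iS_app (sT K N)
  ZY := pullback (P2 K N) (iS (sT K N))
  eY := pullback.fst _ _ ≫ eZ K N
  iZ := pullback.fst _ _
  qY := pullback.snd _ _
  wZY := rfl
  hiZ := inferInstance
  sqY := by
    have h := isPullback_Y (sT K N) (sqZ K N)
    have e : iS (sT K N) ≫ strS K (TorAlg K N) = strS K (JacAlg K N) := iJ_str K N
    rw [e] at h
    exact h
  wY := pullback.condition
  DD := DS (sT K N)
  aD := oS (sT K N) ≫ strS K (TorAlg K N)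
  oD := oS (sT K N)
  wDD := rfl
  ZD := pullback (P2 K N) (oS (sT K N))
  eD := pullback.fst _ _ ≫ eZ K N
  oZ := pullback.fst _ _
  wZD := rfl
  hoZ := inferInstance
  qoZ := inferInstance
  rD := range_D (sT K N)
  qD := pullback.snd _ _
  r1 := r1Z K N
  sqD := (spec_r1 K N).1
  wD := pullback.condition
  hr1 := by
    rw [sig_eq]
    exact (spec_r1 K N).2
  s := sZ K N
  hs := (spec_sZ K N).1
  ws := (spec_sZ K N).2.1
  hs0 := (spec_sZ K N).2.2.1
  ZG := pullback (strS K K[T;T⁻¹]) (strS K (TorAlg K N))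
  eG := pullback.snd _ _ ≫ strS K (TorAlg K N)
  oG := oGZ K N
  hoG := (spec_sZ K N).2.2.2.1
  qoG := (spec_sZ K N).2.2.2.2.1
  wG := by
    have h := (spec_sZ K N).2.2.2.2.2.1
    rw [← Category.assoc, h]
  rG := (spec_sZ K N).2.2.2.2.2.2.2.2
  φ := phiZ K N
  hφ := (spec_phi K N).1
  wφ := (spec_phi K N).2.1
  φ0 := (spec_phi K N).2.2.1.trans (spec_sZ K N).2.2.2.2.2.2.2.1.symm
  φS := fun i => by
    have h1 := (spec_phi K N).2.2.2 i
    rw [← (spec_sZ K N).2.2.2.2.2.2.2.1] at h1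
    refine h1.trans (congrArg (_ * ·) ?_)
    have h2 := app_congr (spec_sZ K N).2.2.2.2.2.1 (sp (tc K N i))
    rw [comp_app] at h2
    exact h2.symm
  gA := good_strS K _
  gZ := by
    have h1 := good_strS K (Polynomial K)
    have := h1.sep
    have := h1.qc
    have := h1.ft
    have h2 : HcCls.Good (P2 K N) := ⟨inferInstance, inferInstance, inferInstance⟩
    exact good_comp _ _ h2 (good_strS K _)
  gY := good_strS K _
  gD := by
    have h2 : HcCls.Good (oS (sT K N)) := ⟨inferInstance, inferInstance, inferInstance⟩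
    exact good_comp _ _ h2 (good_strS K _)

end Groth.Agent.Sga4h.H931.JacKH
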