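import Groth.Agent.Sga4h.H931.Irred

/-!
# The multi-Kummer cover of the Jacobi hypersurface is integral
-/

set_option autoImplicit false

open scoped BigOperators
open MvPolynomial

namespace Groth.Agent.Sga4h.H931.KumDom

open Groth.Agent.Sga4h.H931.Irred

/-- The coordinate ring of `1 + ∑ x_i = 0` in the torus. -/
abbrev JacAlg (F : Type*) [CommRing F] (n : ℕ) : Type _ :=
  Localization.Away (∏ i : Fin n, X i : MvPolynomial (Fin n) F) ⧸
    Ideal.span {algebraMap (MvPolynomial (Fin n) F)
      (Localization.Away (∏ i : Fin n, X i : MvPolynomial (Fin n) F)) (1 + ∑ i : Fin n, X i)}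

/-- The coordinate functions. -/
noncomputable abbrev xc (F : Type*) [CommRing F] (n : ℕ) (i : Fin n) : JacAlg F n :=
  algebraMap (MvPolynomial (Fin n) F) (JacAlg F n) (X i)

/-- The multi-Kummer algebra (same as `LangSh.KumFamAlg`). -/
abbrev KF (R : Type*) [CommRing R] {n : ℕ} (m : ℕ) (u : Fin n → R) : Type _ :=
  MvPolynomial (Fin n) R ⧸ Ideal.span (Set.range fun i => (X i) ^ m - C (u i))

theorem map_one_add_sum {A B : Type*} [CommRing A] [CommRing B] (g : A →+* B) {n : ℕ} (f : Fin n → A) :
    g (1 + ∑ i, f i) = 1 + ∑ i, g (f i) := by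
  rw [map_add, map_one, map_sum]

theorem map_fer {F : Type*} [Field F] {B : Type*} [CommRing B] (m n : ℕ)
    (g : MvPolynomial (Fin n) F →+* B) : g (fer F m n) = 1 + ∑ i, g (X i) ^ m := by
  unfold fer
  rw [map_one_add_sum]
  simp only [map_pow]

section Lift

variable {F : Type*} [CommRing F] {n : ℕ}

/-- Ring maps out of `JacAlg`. -/
noncomputable def jacLift {B : Type*} [CommRing B] (g : MvPolynomial (Fin n) F →+* B)
    (hu : ∀ i, IsUnit (g (X i))) (h : g (1 + ∑ i : Fin n, X i) = 0) : JacAlg F n →+* B :=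
  Ideal.Quotient.lift _
    (IsLocalization.Away.lift (∏ i : Fin n, X i : MvPolynomial (Fin n) F) (g := g)
      (by
        rw [map_prod]
        exact (IsUnit.prod_univ_iff (f := fun i : Fin n => g (X i))).2 hu))
    (by
      intro a ha
      rw [← RingHom.mem_ker]
      revert a
      change Ideal.span _ ≤ _
      rw [Ideal.span_le, Set.singleton_subset_iff, SetLike.mem_coe, RingHom.mem_ker,
        IsLocalization.Away.lift_eq]
      exact h)

@[simp] theorem jacLift_algebraMap {B : Type*} [CommRing B] (g : MvPolynomial (Fin n) F →+* B)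
    (hu : ∀ i, IsUnit (g (X i))) (h : g (1 + ∑ i : Fin n, X i) = 0) (p : MvPolynomial (Fin n) F) :
    jacLift g hu h (algebraMap _ (JacAlg F n) p) = g p :=
  (Ideal.Quotient.lift_mk _ _ _).trans (IsLocalization.Away.lift_eq _ _ _)

/-- Ring maps out of `JacAlg` agreeing on polynomials are equal. -/
theorem jac_ringHom_ext {B : Type*} [CommRing B] {g h : JacAlg F n →+* B}
    (hgh : g.comp (algebraMap (MvPolynomial (Fin n) F) (JacAlg F n)) =
      h.comp (algebraMap (MvPolynomial (Fin n) F) (JacAlg F n))) : g = h := by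
  refine Ideal.Quotient.ringHom_ext ?_
  refine IsLocalization.ringHom_ext (Submonoid.powers (∏ i : Fin n, X i : MvPolynomial (Fin n) F)) ?_
  exact hgh

theorem isUnit_xc (i : Fin n) : IsUnit (xc F n i) := by
  have h1 : IsUnit (algebraMap (MvPolynomial (Fin n) F)
      (Localization.Away (∏ i : Fin n, X i : MvPolynomial (Fin n) F)) (∏ i : Fin n, X i)) :=
    IsLocalization.Away.algebraMap_isUnit _
  rw [map_prod] at h1
  exact ((IsUnit.prod_univ_iff).1 h1 i).map (Ideal.Quotient.mk _)

theorem algebraMap_rel : algebraMap (MvPolynomial (Fin n) F) (JacAlg F n) (1 + ∑ i : Fin n, X i) = 0 :=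
  Ideal.Quotient.eq_zero_iff_mem.2 (Ideal.mem_span_singleton_self _)

theorem one_add_sum_xc : (1 : JacAlg F n) + ∑ i, xc F n i = 0 :=
  (map_one_add_sum (algebraMap (MvPolynomial (Fin n) F) (JacAlg F n)) _).symm.trans algebraMap_rel

end Lift

section Fer

variable (F : Type*) [Field F] (m n : ℕ)

/-- The coordinate functions on the Fermat side. -/
noncomputable abbrev yc (i : Fin n) : FerAlg F m n :=
  algebraMap (MvPolynomial (Fin n) F) (FerAlg F m n) (X i)

theorem isUnit_yc (i : Fin n) : IsUnit (yc F m n i) := by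
  have h1 : IsUnit (algebraMap (MvPolynomial (Fin n) F)
      (Localization.Away (∏ i : Fin n, X i : MvPolynomial (Fin n) F)) (∏ i : Fin n, X i)) :=
    IsLocalization.Away.algebraMap_isUnit _
  rw [map_prod] at h1
  exact ((IsUnit.prod_univ_iff).1 h1 i).map (Ideal.Quotient.mk _)

theorem algebraMap_fer : algebraMap (MvPolynomial (Fin n) F) (FerAlg F m n) (fer F m n) = 0 :=
  Ideal.Quotient.eq_zero_iff_mem.2 (Ideal.mem_span_singleton_self _)

theorem one_add_sum_yc : (1 : FerAlg F m n) + ∑ i, yc F m n i ^ m = 0 :=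
  (map_fer m n (algebraMap (MvPolynomial (Fin n) F) (FerAlg F m n))).symm.trans (algebraMap_fer F m n)

/-- Ring maps out of `FerAlg`. -/
noncomputable def ferLift {B : Type*} [CommRing B] (g : MvPolynomial (Fin n) F →+* B)
    (hu : ∀ i, IsUnit (g (X i))) (h : g (fer F m n) = 0) : FerAlg F m n →+* B :=
  Ideal.Quotient.lift _
    (IsLocalization.Away.lift (∏ i : Fin n, X i : MvPolynomial (Fin n) F) (g := g)
      (by
        rw [map_prod]
        exact (IsUnit.prod_univ_iff (f := fun i : Fin n => g (X i))).2 hu))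
    (by
      intro a ha
      rw [← RingHom.mem_ker]
      revert a
      change Ideal.span _ ≤ _
      rw [Ideal.span_le, Set.singleton_subset_iff, SetLike.mem_coe, RingHom.mem_ker,
        IsLocalization.Away.lift_eq]
      exact h)

@[simp] theorem ferLift_algebraMap {B : Type*} [CommRing B] (g : MvPolynomial (Fin n) F →+* B)
    (hu : ∀ i, IsUnit (g (X i))) (h : g (fer F m n) = 0) (p : MvPolynomial (Fin n) F) :
    ferLift F m n g hu h (algebraMap _ (FerAlg F m n) p) = g p :=
  (Ideal.Quotient.lift_mk _ _ _).trans (IsLocalization.Away.lift_eq _ _ _)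

/-- `JacAlg → FerAlg`, `x_i ↦ y_i ^ m`. -/
noncomputable def jacToFer : JacAlg F n →+* FerAlg F m n :=
  jacLift (eval₂Hom (algebraMap F (FerAlg F m n)) (fun i => yc F m n i ^ m))
    (fun i => by
      rw [eval₂Hom_X']
      exact (isUnit_yc F m n i).pow m)
    (by
      rw [map_add, map_one, map_sum]
      simp only [eval₂Hom_X']
      exact one_add_sum_yc F m n)

theorem jacToFer_xc (i : Fin n) : jacToFer F m n (xc F n i) = yc F m n i ^ m := by
  unfold jacToFer xc
  rw [jacLift_algebraMap, eval₂Hom_X']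

/-- `KF → FerAlg`. -/
noncomputable def kfToFer : KF (JacAlg F n) m (xc F n) →+* FerAlg F m n :=
  Ideal.Quotient.lift _ (eval₂Hom (jacToFer F m n) (yc F m n))
    (by
      intro a ha
      rw [← RingHom.mem_ker]
      revert a
      change Ideal.span _ ≤ _
      rw [Ideal.span_le]
      rintro _ ⟨i, rfl⟩
      rw [SetLike.mem_coe, RingHom.mem_ker, map_sub, map_pow, eval₂Hom_X', eval₂Hom_C,
        jacToFer_xc, sub_self])

theorem kf_pow (R : Type*) [CommRing R] {n : ℕ} (m : ℕ) (u : Fin n → R) (i : Fin n) :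
    (Ideal.Quotient.mk (Ideal.span (Set.range fun i => (X i) ^ m - C (u i))) (X i) : KF R m u) ^ m =
      algebraMap R (KF R m u) (u i) := by
  rw [← map_pow, ← sub_eq_zero]
  have : algebraMap R (KF R m u) (u i) =
      Ideal.Quotient.mk (Ideal.span (Set.range fun i => (X i) ^ m - C (u i))) (C (u i)) := rfl
  rw [this, ← map_sub, Ideal.Quotient.eq_zero_iff_mem]
  exact Ideal.subset_span ⟨i, rfl⟩

/-- `FerAlg → KF`. -/
noncomputable def ferToKf (hm : m ≠ 0) : FerAlg F m n →+* KF (JacAlg F n) m (xc F n) :=
  ferLift F m n (eval₂Hom ((algebraMap (JacAlg F n) (KF (JacAlg F n) m (xc F n))).comp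
      (algebraMap F (JacAlg F n))) (fun i => Ideal.Quotient.mk _ (X i)))
    (fun i => by
      rw [eval₂Hom_X']
      have h1 : IsUnit ((Ideal.Quotient.mk (Ideal.span (Set.range fun i => (X i) ^ m - C (xc F n i)))
          (X i) : KF (JacAlg F n) m (xc F n)) ^ m) := by
        rw [kf_pow]
        exact (isUnit_xc i).map _
      exact (isUnit_pow_iff hm).1 h1)
    (by
      refine (map_fer m n _).trans ?_
      simp only [eval₂Hom_X', kf_pow]
      refine (map_one_add_sum (algebraMap (JacAlg F n) (KF (JacAlg F n) m (xc F n))) _).symm.trans ?_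
      exact (congrArg _ (one_add_sum_xc (F := F) (n := n))).trans (map_zero _))

theorem ferToKf_comp (hm : m ≠ 0) : (ferToKf F m n hm).comp (kfToFer F m n) = RingHom.id _ := by
  refine Ideal.Quotient.ringHom_ext ?_
  refine MvPolynomial.ringHom_ext' ?_ ?_
  · refine jac_ringHom_ext ?_
    refine MvPolynomial.ringHom_ext' ?_ ?_
    · ext a
      change ferToKf F m n hm (kfToFer F m n (algebraMap (JacAlg F n) _
        (algebraMap (MvPolynomial (Fin n) F) (JacAlg F n) (C a)))) = _
      have h1 : kfToFer F m n (algebraMap (JacAlg F n) _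
          (algebraMap (MvPolynomial (Fin n) F) (JacAlg F n) (C a))) =
          algebraMap (MvPolynomial (Fin n) F) (FerAlg F m n) (C a) := by
        change kfToFer F m n (Ideal.Quotient.mk _
          (C (algebraMap (MvPolynomial (Fin n) F) (JacAlg F n) (C a)))) = _
        unfold kfToFer
        rw [Ideal.Quotient.lift_mk, eval₂Hom_C]
        unfold jacToFer
        rw [jacLift_algebraMap, eval₂Hom_C]
        rfl
      rw [h1]
      unfold ferToKf
      rw [ferLift_algebraMap, eval₂Hom_C]
      rfl
    · intro i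
      change ferToKf F m n hm (kfToFer F m n (algebraMap (JacAlg F n) _ (xc F n i))) =
        algebraMap (JacAlg F n) _ (xc F n i)
      have h1 : kfToFer F m n (algebraMap (JacAlg F n) _ (xc F n i)) = yc F m n i ^ m := by
        change kfToFer F m n (Ideal.Quotient.mk _ (C (xc F n i))) = _
        unfold kfToFer
        rw [Ideal.Quotient.lift_mk, eval₂Hom_C, jacToFer_xc]
      rw [h1, map_pow]
      unfold ferToKf
      rw [ferLift_algebraMap, eval₂Hom_X', kf_pow]
  · intro i
    change ferToKf F m n hm (kfToFer F m n (Ideal.Quotient.mk _ (X i))) = Ideal.Quotient.mk _ (X i)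
    unfold kfToFer
    rw [Ideal.Quotient.lift_mk, eval₂Hom_X']
    unfold ferToKf
    rw [ferLift_algebraMap, eval₂Hom_X']

/-- The multi-Kummer cover of the Jacobi hypersurface is integral. -/
theorem isDomain_kf (hm : (m : F) ≠ 0) (hn : 2 ≤ n) : IsDomain (KF (JacAlg F n) m (xc F n)) := by
  have hm0 : m ≠ 0 := by
    rintro rfl
    simp at hm
  have := isDomain_ferAlg (F := F) m n hm hn
  have hinj : Function.Injective (kfToFer F m n) := by
    intro a b hab
    have h1 := congrArg (ferToKf F m n hm0) hab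
    have h2 := ferToKf_comp F m n hm0
    have h3 : ∀ x, ferToKf F m n hm0 (kfToFer F m n x) = x := fun x => by
      change ((ferToKf F m n hm0).comp (kfToFer F m n)) x = x
      rw [h2]
      rfl
    rwa [h3, h3] at h1
  exact hinj.isDomain (kfToFer F m n)

end Fer

end Groth.Agent.Sga4h.H931.KumDom
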