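import Groth.Agent.Sga4h.H931.Pic

/-!
# The classes of `F_ψ(f)` and `F_χ(u)` over `K`

For `a : X ⟶ Spec K`, `k` a finite field, `Algebra k K`:
* `rho a : k →+* Γ(X, ⊤)`;
* `A a ψ f`, `B a χ u`: the classes of `F_(ψ, 1)(f, 1)`, `F_(1, χ)(0, u)`; additivity, inverse images,
  `clsF_eq : clsF (rho a) (ψ, χ) f u = A a ψ f * B a χ u`.
-/

set_option autoImplicit false
universe u
open CategoryTheory CategoryTheory.Limits AlgebraicGeometry Opposite MonoidalCategory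

namespace Groth.Agent.Sga4h.H931.Rk

open scoped Groth.Agent.Sga5.H835.MonEt
open Groth.Agent.Sga4h.H299 Groth.Agent.Sga4h.H918 Groth.Agent.Sga4h.H931.Pic

variable {k : Type u} [Field k] [Fintype k] {K : Type u} [Field K] [Algebra k K]
variable {Λ : Type (u + 1)} [CommRing Λ] {X Y : Scheme.{u}}

/-- The structure map `k → Γ(X, 𝒪)`. -/
noncomputable def rho (k : Type u) [Field k] {K : Type u} [Field K] [Algebra k K] {X : Scheme.{u}}
    (a : X ⟶ Spec (CommRingCat.of K)) : k →+* Γ(X, ⊤) :=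
  a.appTop.hom.comp ((Scheme.ΓSpecIso (CommRingCat.of K)).inv.hom.comp (algebraMap k K))

theorem rho_comp (a : X ⟶ Spec (CommRingCat.of K)) (b : Y ⟶ Spec (CommRingCat.of K)) (g : Y ⟶ X) (w : g ≫ a = b) :
    g.appTop.hom.comp (rho k a) = rho k b := by
  subst w
  unfold rho
  rw [Scheme.Hom.comp_appTop]
  rfl

variable (a : X ⟶ Spec (CommRingCat.of K))

/-- The class of `F_ψ(f)`. -/
noncomputable def A (ψ : Multiplicative k →* Λˣ) (f : Γ(X, ⊤)) : Pc Λ X :=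
  clsF (rho k a) (MonoidHom.coprod ψ (1 : kˣ →* Λˣ)) f 1

/-- The class of `F_χ(u)`. -/
noncomputable def B (χ : kˣ →* Λˣ) (u : Γ(X, ⊤)ˣ) : Pc Λ X :=
  clsF (rho k a) (MonoidHom.coprod (1 : Multiplicative k →* Λˣ) χ) 0 u

variable (ψ : Multiplicative k →* Λˣ) (χ χ' : kˣ →* Λˣ)

theorem A_add (f f' : Γ(X, ⊤)) : A a ψ (f + f') = A a ψ f * A a ψ f' := by
  unfold A
  rw [← clsF_mul, mul_one]

theorem A_zero : A a ψ 0 = 1 := clsF_left _ (fun d => by simp) 1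

theorem isUnit_A (f : Γ(X, ⊤)) : IsUnit (A a ψ f) := by
  refine isUnit_iff_exists_inv.2 ⟨A a ψ (-f), ?_⟩
  rw [← A_add, add_neg_cancel, A_zero]

theorem B_mul (u u' : Γ(X, ⊤)ˣ) : B a χ (u * u') = B a χ u * B a χ u' := by
  unfold B
  rw [← clsF_mul, add_zero]

theorem B_one : B a χ 1 = 1 := clsF_right' _ (fun c => by simp) 0

theorem isUnit_B (u : Γ(X, ⊤)ˣ) : IsUnit (B a χ u) := by
  refine isUnit_iff_exists_inv.2 ⟨B a χ u⁻¹, ?_⟩
  rw [← B_mul, mul_inv_cancel, B_one]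

theorem B_char (u : Γ(X, ⊤)ˣ) : B a (χ * χ') u = B a χ u * B a χ' u := by
  unfold B
  rw [← clsF_char]
  congr 1
  ext <;> simp

theorem B_char_one (u : Γ(X, ⊤)ˣ) : B a (1 : kˣ →* Λˣ) u = 1 := clsF_left _ (fun d => by simp) u

theorem B_char_inv (u : Γ(X, ⊤)ˣ) : B a χ⁻¹ u * B a χ u = 1 := by
  have h : χ⁻¹ * χ = 1 := by
    ext x
    simp
  rw [← B_char, h, B_char_one]

/-- `B` as a homomorphism in the character. -/
noncomputable def BHom (u : Γ(X, ⊤)ˣ) : (kˣ →* Λˣ) →* Pc Λ X where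
  toFun χ := B a χ u
  map_one' := B_char_one a u
  map_mul' χ χ' := B_char a χ χ' u

theorem B_prod {ι : Type*} (s : Finset ι) (χ : ι → (kˣ →* Λˣ)) (u : Γ(X, ⊤)ˣ) :
    B a (∏ i ∈ s, χ i) u = ∏ i ∈ s, B a (χ i) u := map_prod (BHom a u) χ s

theorem clsF_eq (f : Γ(X, ⊤)) (u : Γ(X, ⊤)ˣ) :
    clsF (rho k a) (MonoidHom.coprod ψ χ) f u = A a ψ f * B a χ u := by
  have h1 : MonoidHom.coprod ψ χ = MonoidHom.coprod ψ 1 * MonoidHom.coprod 1 χ := by
    ext <;> simp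
  have h2 : clsF (rho k a) (MonoidHom.coprod ψ (1 : kˣ →* Λˣ)) (f + 0) (1 * u) = A a ψ f := by
    rw [clsF_mul, clsF_left _ (fun d => by simp) u, mul_one]
    rfl
  have h3 : clsF (rho k a) (MonoidHom.coprod (1 : Multiplicative k →* Λˣ) χ) (f + 0) (1 * u) = B a χ u := by
    rw [clsF_mul, clsF_right' _ (fun c => by simp) f, one_mul]
    rfl
  rw [add_zero, one_mul] at h2 h3
  rw [h1, clsF_char, h2, h3]

section Pull

variable (b : Y ⟶ Spec (CommRingCat.of K)) (g : Y ⟶ X) (w : g ≫ a = b)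

include w

theorem pb_A (f : Γ(X, ⊤)) : pb g (A a ψ f) = A b ψ (g.appTop.hom f) := by
  unfold A
  rw [pb_clsF, rho_comp a b g w, map_one]

theorem pb_B (u : Γ(X, ⊤)ˣ) : pb g (B a χ u) = B b χ (Units.map g.appTop.hom u) := by
  unfold B
  rw [pb_clsF, rho_comp a b g w, map_zero]

end Pull

end Groth.Agent.Sga4h.H931.Rk
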