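import Groth.Agent.Sga4h.H931.Trans
import Groth.Agent.Sga4h.H931.Rk
import Groth.Agent.Sga4h.H768.G3Core

/-!
# Parts (i), (ii) of S4264 from the cohomology of the Jacobi variety over `K`
-/

set_option autoImplicit false
universe u
open CategoryTheory CategoryTheory.Limits AlgebraicGeometry Opposite
open scoped Groth.Agent.Sga5.H835.MonEt

namespace Groth.Agent.Sga4h.H931.Main

open Groth.Agent.Sga4h.H931.KumDom Groth.Agent.Sga4h.H931.Pic Groth.Agent.Sga4h.H931.HcCls
  Groth.Agent.Sga4h.H931.HcKun Groth.Agent.Sga4h.H299 Groth.Agent.Sga4h.H299.LamMod Groth.Agent.Sga4h.H931.Rk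
  Groth.Agent.Sga4h.H768.KumBc Groth.Agent.Sga4h.H931.NonTriv Groth.Agent.Sga4h.H931.Trans Groth.Agent.Sga4h.H918
  Groth.Agent.Sga4h.H768.KumTor Groth.Agent.Sga4h.H768.KumDec

section

variable {k : Type u} [Field k] [Fintype k] {K : Type u} [Field K] [Algebra k K]
variable {Λ : Type (u + 1)} [CommRing Λ] {X : Scheme.{u}} (a : X ⟶ Spec (CommRingCat.of K))

theorem B_pow (χ : kˣ →* Λˣ) (y : Γ(X, ⊤)ˣ) : B a χ (y ^ (Fintype.card k - 1)) = 1 := by
  unfold B clsF
  exact cls_eq (Lang.trivF _ 0 (y : Γ(X, ⊤)) (by rw [zero_pow Fintype.card_ne_zero, sub_zero])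
    (Units.val_pow_eq_pow_val _ _).symm _)

theorem cls_tensFin (n : ℕ) (M : Fin n → EtModW.Mod Λ X) : cls (tensFin n M) = ∏ i, cls (M i) := by
  induction n with
  | zero => rw [Fin.prod_univ_zero, tensFin_zero, cls_const]
  | succ n ih =>
    rw [Fin.prod_univ_succ, tensFin_succ, ← ih]
    exact cls_T _ _

end

section

variable (k K : Type u) [Field k] [Fintype k] [Field K] [Algebra k K] (N : ℕ)

/-- The coordinates on the Jacobi variety over `K`. -/
noncomputable def wU (i : Fin N) : Γ(Spec (CommRingCat.of (JacAlg K N)), ⊤)ˣ :=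
  ((isUnit_xc (F := K) i).map (Scheme.ΓSpecIso (CommRingCat.of (JacAlg K N))).inv.hom).unit

theorem wU_val (i : Fin N) : (wU K N i : Γ(Spec (CommRingCat.of (JacAlg K N)), ⊤)) =
    (Scheme.ΓSpecIso (CommRingCat.of (JacAlg K N))).inv.hom (xc K N i) := rfl

variable {K N} {Λ : Type} [Field Λ]

theorem exists_char (hN : 2 ≤ N) {v : Fin N → (JacAlg k N)ˣ} (hv : ∀ i, (v i : JacAlg k N) = xc k N i)
    (L : EtLam.Sheaf Λ (Spec (CommRingCat.of (JacAlg k N))))
    (hL : LangSh.IsConstOn (LangSh.cover (JacAlg k N)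
      (LangSh.KumFamAlg (JacAlg k N) (Fintype.card k - 1) (fun i => (v i : JacAlg k N)))) L) :
    ∃ θ : Fin N → (kˣ →* (UL.{u} Λ)ˣ), cls ((EtModW.pull (UL.{u} Λ) (gK k K N)).obj (toMod L)) =
      ∏ i, B (Spec.map (CommRingCat.ofHom (algebraMap K (JacAlg K N)))) (θ i) (wU K N i) := by
  rw [show (fun i => (v i : JacAlg k N)) = xc k N from funext hv] at hL
  obtain ⟨θ, e⟩ := Groth.Agent.Sga4h.H768.G3Core.exists_jac (K := K) hN hL
    (rho k (Spec.map (CommRingCat.ofHom (algebraMap K (JacAlg K N)))))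
  refine ⟨θ, (cls_eq e).trans ?_⟩
  rw [cls_tensFin]
  rfl

/-- **Parts (i), (ii)**. -/
theorem main {K : Type u} [Field K] [Algebra k K] [IsAlgClosed K] [Algebra.IsAlgebraic k K]
    [Fact FinFr.PullExact.{u}] [Finite Λ] (hN : 1 ≤ N)
    (hjac : ∀ θ : Fin N → (kˣ →* (UL.{u} Λ)ˣ), (∃ i, θ i ≠ 1) → ∀ m,
      hc (Spec.map (CommRingCat.ofHom (algebraMap K (JacAlg K N))))
        (∏ i, B (Spec.map (CommRingCat.ofHom (algebraMap K (JacAlg K N)))) (θ i) (wU K N i)) m =
          if m + 1 = N then Nat.card (UL.{u} Λ) else 1)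
    (χ : Fin N → MulChar k Λ) (hχ : ∃ i, χ i ≠ 1) (v : Fin N → (JacAlg k N)ˣ)
    (hv : ∀ i, (v i : JacAlg k N) = xc k N i) (L : EtLam.Sheaf Λ (Spec (CommRingCat.of (JacAlg k N))))
    (hL : LangSh.IsKumFamSheaf K χ v L)
    {P₀ : Scheme.{u}} (j : Spec (CommRingCat.of (JacAlg k N)) ⟶ P₀) [IsOpenImmersion j]
    (b : P₀ ⟶ Spec (CommRingCat.of k)) [IsProper b]
    (hj : j ≫ b = Spec.map (CommRingCat.ofHom (algebraMap k (JacAlg k N)))) :
    (∀ i : ℕ, i ≠ N - 1 → Subsingleton (EtCoh.H (FinFr.ext K b) (EtLam.pullback (FinFr.extπ K b) (FinFr.extZeroLam j L)).carrier i)) ∧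
      Module.finrank Λ (EtCoh.H (FinFr.ext K b) (EtLam.pullback (FinFr.extπ K b) (FinFr.extZeroLam j L)).carrier (N - 1)) = 1 := by
  apply transfer (K := K) N hN L j b hj
  rcases Nat.lt_or_ge N 2 with h2 | h2
  · obtain rfl : N = 1 := by omega
    have h1 : cls ((EtModW.pull (UL.{u} Λ) (gK k K 1)).obj (toMod L)) = 1 := by
      have hL1 := hL.1
      rw [show (fun i => (v i : JacAlg k 1)) = xc k 1 from funext hv] at hL1
      exact cls_eq (Groth.Agent.Sga4h.H768.G3Core.const_jac (K := K) hL1)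
    obtain ⟨i, hi⟩ := hχ
    -- a nontrivial character with values in `UL Λ`
    let θ : kˣ →* (UL.{u} Λ)ˣ := (Units.map ((ULift.ringEquiv (R := Λ)).symm : Λ →* UL.{u} Λ)).comp (χ i).toUnitHom
    have hθ : θ ≠ 1 := by
      intro h
      apply hi
      ext d
      have h3 := DFunLike.congr_fun h d
      have h4 := congrArg (fun z : (UL.{u} Λ)ˣ => (z : UL.{u} Λ).down) h3
      have h5 : ((θ d : (UL.{u} Λ)ˣ) : UL.{u} Λ).down = χ i (d : k) := MulChar.coe_toUnitHom _ _
      rw [← h5]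
      exact h4.trans (MulChar.one_apply_coe d).symm
    have h3 := hjac (fun _ => θ) ⟨0, hθ⟩
    have h4 : ∏ i, B (Spec.map (CommRingCat.ofHom (algebraMap K (JacAlg K 1)))) θ (wU K 1 i) =
        (1 : Pc (UL.{u} Λ) _) := by
      refine Finset.prod_eq_one fun i _ => ?_
      obtain ⟨c, hc⟩ := IsAlgClosed.exists_pow_nat_eq (-1 : K) (Nat.sub_pos_of_lt (Fintype.one_lt_card (α := k)))
      have hc0 : c ≠ 0 := by
        rintro rfl
        rw [zero_pow (Nat.sub_pos_of_lt (Fintype.one_lt_card (α := k))).ne'] at hc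
        simp at hc
      let y : Γ(Spec (CommRingCat.of (JacAlg K 1)), ⊤)ˣ :=
        Units.map ((Scheme.ΓSpecIso (CommRingCat.of (JacAlg K 1))).inv.hom.comp (algebraMap K (JacAlg K 1)) :
          K →* Γ(Spec (CommRingCat.of (JacAlg K 1)), ⊤)) (Units.mk0 c hc0)
      have hy : wU K 1 i = y ^ (Fintype.card k - 1) := by
        apply Units.ext
        rw [Units.val_pow_eq_pow_val, wU_val]
        change _ = ((Scheme.ΓSpecIso (CommRingCat.of (JacAlg K 1))).inv.hom (algebraMap K (JacAlg K 1) c)) ^ _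
        rw [← map_pow, ← map_pow, hc]
        congr 1
        have h1 := one_add_sum_xc (F := K) (n := 1)
        have h2 : ∑ i, xc K 1 i = xc K 1 i := Fintype.sum_subsingleton _ i
        rw [h2] at h1
        rw [map_neg, map_one]
        exact (neg_eq_of_add_eq_zero_right h1).symm
      rw [hy, B_pow]
    rw [h4] at h3
    rw [h1]
    exact h3
  · obtain ⟨θ, hθ⟩ := exists_char k (K := K) h2 hv L hL.1
    have hne := cls_ne_one (K := K) h2 χ hχ v hv L hL
    have hex : ∃ i, θ i ≠ 1 := by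
      by_contra hcon
      push Not at hcon
      apply hne
      rw [hθ]
      refine Finset.prod_eq_one fun i _ => ?_
      rw [hcon i, B_char_one]
    rw [hθ]
    exact hjac θ hex

end

end Groth.Agent.Sga4h.H931.Main
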