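import Groth.Agent.Sga4h.H931.ConstOn
import Groth.Agent.Sga4h.H768.KumEt

/-!
# Kummer sheaves are constructible
-/

set_option autoImplicit false
universe u
open CategoryTheory CategoryTheory.Limits AlgebraicGeometry Opposite

namespace Groth.Agent.Sga4h.H931.Cons

theorem isUnit_card {k R : Type*} [Field k] [Fintype k] [CommRing R] [Algebra k R] :
    IsUnit ((Fintype.card k - 1 : ℕ) : R) := by
  have h0 : 1 ≤ Fintype.card k := Fintype.card_pos
  have h1 : ((Fintype.card k - 1 : ℕ) : k) = -1 := by
    rw [Nat.cast_sub h0, FiniteField.cast_card_eq_zero, Nat.cast_one, zero_sub]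
  have h2 : ((Fintype.card k - 1 : ℕ) : R) = algebraMap k R ((Fintype.card k - 1 : ℕ) : k) := (map_natCast _ _).symm
  rw [h2, h1, map_neg, map_one]
  exact isUnit_one.neg

theorem isConstructible {k R : Type u} [Field k] [Fintype k] [CommRing R] [Algebra k R] {N : ℕ} {Λ : Type} [Field Λ]
    (u : Fin N → Rˣ) (L : EtLam.Sheaf Λ (Spec (CommRingCat.of R)))
    (hL : LangSh.IsConstOn (LangSh.cover R
      (LangSh.KumFamAlg R (Fintype.card k - 1) (fun i => (u i : R)))) L) : EtLam.IsConstructible L := by
  have h1 := Groth.Agent.Sga4h.H768.KumEt.etale_cover (R := R) (Fintype.card k - 1) (isUnit_card (k := k))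
    (fun i => (u i : R)) (fun i => (u i).isUnit)
  have h2 := Groth.Agent.Sga4h.H768.KumEt.surjective_cover (R := R) (Fintype.card k - 1)
    (Nat.sub_pos_of_lt (Fintype.one_lt_card (α := k))).ne' (fun i => (u i : R))
  exact ConstOn.isConstructible_of_isConstOn _ L hL

end Groth.Agent.Sga4h.H931.Cons
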