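import Groth.Agent.Sga4h.H931.JacPts
import Groth.Agent.Sga4h.H931.ConstOn
import Mathlib.RingTheory.Norm.Basic

/-!
# The Frobenius eigenvalue of S4264 from the trace formula
-/

set_option autoImplicit false
universe u
open CategoryTheory CategoryTheory.Limits AlgebraicGeometry Opposite
open MvPolynomial

namespace Groth.Agent.Sga4h.H931.FrobEval

open Groth.Agent.Sga4h.H931.KumDom Groth.Agent.Sga4h.H931.LocTr Groth.Agent.Sga4h.H931.JacPts

theorem norm_bot {k K : Type*} [Field k] [Field K] [Algebra k K] (z : (⊥ : IntermediateField k K)) (a : k)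
    (h : (z : K) = algebraMap k K a) : Algebra.norm k z = a := by
  have h1 : z = algebraMap k (⊥ : IntermediateField k K) a := Subtype.ext h
  rw [h1, Algebra.norm_algebraMap, IntermediateField.finrank_bot, pow_one]

theorem frobC_jacobi (k K : Type u) [Field k] [Fintype k] [DecidableEq k] [Field K] [Algebra k K]
    [Algebra.IsAlgebraic k K] (Λ : Type) [Field Λ]
    [Fact FinFr.PullExact.{u}] (N : ℕ) (χ : Fin N → MulChar k Λ)
    (u : Fin N → (JacAlg k N)ˣ) (hu : ∀ i, (u i : JacAlg k N) = xc k N i)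
    (L : EtLam.Sheaf Λ (Spec (CommRingCat.of (JacAlg k N))))
    (hL : LangSh.IsKumFamSheaf K (fun i => (χ i)⁻¹) u L)
    {P₀ : Scheme.{u}} (j : Spec (CommRingCat.of (JacAlg k N)) ⟶ P₀) [IsOpenImmersion j]
    (b : P₀ ⟶ Spec (CommRingCat.of k)) (n : ℕ)
    (hTF : ∑ᶠ x : FinFr.RatPt (Spec.map (CommRingCat.ofHom (algebraMap k (JacAlg k N)))),
      FinFr.locTrace (K := K) x.1 L =
      ∑ᶠ i : ℕ, (-1 : Λ) ^ i * LinearMap.trace Λ _ (FinFr.frobC (K := K) j b L i))
    (h0 : ∀ i : ℕ, i ≠ n → Subsingleton (EtCoh.H (FinFr.ext K b) (EtLam.pullback (FinFr.extπ K b) (FinFr.extZeroLam j L)).carrier i))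
    (h1 : Module.finrank Λ (EtCoh.H (FinFr.ext K b) (EtLam.pullback (FinFr.extπ K b) (FinFr.extZeroLam j L)).carrier n) = 1) :
    FinFr.frobC (K := K) j b L n =
        ((-1) ^ n * ∑ x ∈ (Finset.univ : Finset (Fin N → kˣ)).filter (fun x => ∑ i, ((x i : kˣ) : k) = -1),
          ∏ i : Fin N, (χ i)⁻¹ ((x i : kˣ) : k)) • LinearMap.id := by
  refine eq_smul_of_trace _ (fun i => FinFr.frobC (K := K) j b L i) n h0 h1 _ ?_
  rw [← hTF, ← finsum_jac (k := k) (n := N) (fun v => ∏ i : Fin N, (χ i)⁻¹ (v i))]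
  refine Eq.trans ?_ (finsum_ratPt (k := k) (R := JacAlg k N) (fun x => FinFr.locTrace (K := K) x L)).symm
  refine finsum_congr fun x => ?_
  rw [locTrace_of_hasTraceFun L _ hL.2 x]
  refine Finset.prod_congr rfl fun i _ => ?_
  rw [norm_bot (toBot K x (u i : JacAlg k N)) (x (xc k N i)) (by rw [coe_toBot, hu])]

end Groth.Agent.Sga4h.H931.FrobEval
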