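import Groth.Agent.Sga4h.H931.HcKun
import Groth.Agent.Sga4h.H931.Rk

/-!
# Cohomology with compact supports of tori

`Tow`: a tower of tori `X_{n+1} = G × X_n` with coordinates.
* `hc_top`: `F_ψ(Σ z_i) ⊗ ⊗ F_{χ_i}(z_i)` has one-dimensional cohomology, in degree `n`;
* `hc_zero`: `⊗ F_{χ_i}(z_i)` has no cohomology if some `χ_i ≠ 1`.
-/

set_option autoImplicit false
universe u
open CategoryTheory CategoryTheory.Limits AlgebraicGeometry Opposite MonoidalCategory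

namespace Groth.Agent.Sga4h.H931.Tow

open scoped Groth.Agent.Sga5.H835.MonEt
open Groth.Agent.Sga4h.H299 Groth.Agent.Sga4h.H918 Groth.Agent.Sga4h.H931.Pic Groth.Agent.Sga4h.H931.Rk
  Groth.Agent.Sga4h.H931.HcCls Groth.Agent.Sga4h.H931.HcKun

/-- A tower of tori. -/
structure Tow (K : Type u) [Field K] where
  /-- the one-dimensional torus -/
  G : Scheme.{u}
  /-- structure morphism -/
  aG : G ⟶ Spec (CommRingCat.of K)
  /-- coordinate -/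
  t : Γ(G, ⊤)ˣ
  /-- the tori -/
  X : ℕ → Scheme.{u}
  /-- structure morphisms -/
  a : ∀ n, X n ⟶ Spec (CommRingCat.of K)
  /-- coordinates -/
  z : ∀ n, Fin n → Γ(X n, ⊤)ˣ
  /-- first projection -/
  pr1 : ∀ n, X (n + 1) ⟶ G
  /-- second projection -/
  pr2 : ∀ n, X (n + 1) ⟶ X n
  sq : ∀ n, IsPullback (pr1 n) (pr2 n) aG (a n)
  h1 : ∀ n, Units.map (pr1 n).appTop.hom (t : Γ(G, ⊤)ˣ) = z (n + 1) 0
  h2 : ∀ n i, Units.map (pr2 n).appTop.hom (z n i) = z (n + 1) i.succ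
  w2 : ∀ n, pr2 n ≫ a n = a (n + 1)
  iso0 : IsIso (a 0)
  goodG : Good aG
  good : ∀ n, Good (a n)

attribute [instance] Tow.iso0 Tow.goodG Tow.good

variable {k : Type u} [Field k] [Fintype k] {K : Type u} [Field K] [Algebra k K] [IsSepClosed K]
variable {Λ : Type (u + 1)} [Field Λ] [Finite Λ] (D : Tow K)

theorem h2' (n : ℕ) (i : Fin n) : (D.pr2 n).appTop.hom (D.z n i : Γ(D.X n, ⊤)) = (D.z (n + 1) i.succ : Γ(D.X (n + 1), ⊤)) :=
  congrArg Units.val (D.h2 n i)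

theorem h1' (n : ℕ) : (D.pr1 n).appTop.hom (D.t : Γ(D.G, ⊤)) = (D.z (n + 1) 0 : Γ(D.X (n + 1), ⊤)) :=
  congrArg Units.val (D.h1 n)

theorem w1 (n : ℕ) : D.pr1 n ≫ D.aG = D.a (n + 1) := (D.sq n).w.trans (D.w2 n)

/-- The class of the sum of the coordinates. -/
noncomputable def AS (ψ : Multiplicative k →* Λˣ) (n : ℕ) : Pc Λ (D.X n) :=
  A (D.a n) ψ (∑ i, (D.z n i : Γ(D.X n, ⊤)))

/-- The class of the product of Kummer sheaves. -/
noncomputable def BS (n : ℕ) (χ : Fin n → (kˣ →* Λˣ)) : Pc Λ (D.X n) := ∏ i, B (D.a n) (χ i) (D.z n i)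

theorem isUnit_BS (n : ℕ) (χ : Fin n → (kˣ →* Λˣ)) : IsUnit (BS D n χ) := by
  unfold BS
  exact Finset.prod_induction _ _ (fun _ _ => IsUnit.mul) isUnit_one (fun i _ => isUnit_B _ _ _)

theorem isUnit_AS (ψ : Multiplicative k →* Λˣ) (n : ℕ) : IsUnit (AS D ψ n) := isUnit_A _ _ _

theorem BS_succ (n : ℕ) (χ : Fin (n + 1) → (kˣ →* Λˣ)) :
    BS D (n + 1) χ = pb (D.pr1 n) (B D.aG (χ 0) D.t) * pb (D.pr2 n) (BS D n (fun i => χ i.succ)) := by
  unfold BS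
  rw [Fin.prod_univ_succ, map_prod, pb_B D.aG (χ 0) (D.a (n + 1)) (D.pr1 n) (w1 D n), D.h1]
  congr 1
  refine Finset.prod_congr rfl fun i _ => ?_
  rw [pb_B (D.a n) (χ i.succ) (D.a (n + 1)) (D.pr2 n) (D.w2 n), D.h2]

theorem AS_succ (ψ : Multiplicative k →* Λˣ) (n : ℕ) :
    AS D ψ (n + 1) = pb (D.pr1 n) (A D.aG ψ D.t) * pb (D.pr2 n) (AS D ψ n) := by
  unfold AS
  rw [Fin.sum_univ_succ, A_add, pb_A D.aG ψ (D.a (n + 1)) (D.pr1 n) (w1 D n), h1',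
    pb_A (D.a n) ψ (D.a (n + 1)) (D.pr2 n) (D.w2 n), map_sum]
  simp only [h2']

theorem hc_zero (hI2 : ∀ χ : kˣ →* Λˣ, χ ≠ 1 → ∀ m, hc D.aG (B D.aG χ D.t) m = 1) (n : ℕ)
    (χ : Fin n → (kˣ →* Λˣ)) (hχ : ∃ i, χ i ≠ 1) (m : ℕ) : hc (D.a n) (BS D n χ) m = 1 := by
  induction n generalizing m with
  | zero => obtain ⟨i, -⟩ := hχ; exact i.elim0
  | succ n ih =>
    rw [BS_succ]
    by_cases h : χ 0 = 1
    · obtain ⟨i, hi⟩ := hχ
      have hi0 : i ≠ 0 := by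
        rintro rfl
        exact hi h
      obtain ⟨i, rfl⟩ := Fin.exists_succ_eq.2 hi0
      exact hc_kun_zero' D.aG (D.a n) (D.a (n + 1)) (D.pr1 n) (D.pr2 n) (D.sq n) (w1 D n) _ _ (isUnit_B _ _ _)
        (ih (fun i => χ i.succ) ⟨i, hi⟩) m
    · exact hc_kun_zero D.aG (D.a n) (D.a (n + 1)) (D.pr1 n) (D.pr2 n) (D.sq n) (D.w2 n) _ _ (isUnit_BS D n _)
        (hI2 _ h) m

theorem hc_top (ψ : Multiplicative k →* Λˣ)
    (hI3 : ∀ (χ : kˣ →* Λˣ) (m : ℕ), hc D.aG (A D.aG ψ D.t * B D.aG χ D.t) m = if m = 1 then Nat.card Λ else 1)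
    (n : ℕ) (χ : Fin (n + 1) → (kˣ →* Λˣ)) (m : ℕ) :
    hc (D.a (n + 1)) (AS D ψ (n + 1) * BS D (n + 1) χ) m = if m = n + 1 then Nat.card Λ else 1 := by
  induction n generalizing m with
  | zero =>
    have : IsIso (D.pr1 0) := (D.sq 0).isIso_fst_of_isIso
    have h : AS D ψ (0 + 1) * BS D (0 + 1) χ = pb (D.pr1 0) (A D.aG ψ D.t * B D.aG (χ 0) D.t) := by
      rw [map_mul, AS_succ, BS_succ]
      have h1 : AS D ψ 0 = 1 := by
        unfold AS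
        rw [Finset.univ_eq_empty, Finset.sum_empty, A_zero]
      have h2 : BS D 0 (fun i => χ i.succ) = 1 := by
        unfold BS
        rw [Finset.univ_eq_empty, Finset.prod_empty]
      rw [h1, h2, map_one, mul_one, mul_one]
    rw [h, hc_iso D.aG (D.a (0 + 1)) (D.pr1 0) (w1 D 0), hI3]
  | succ n ih =>
    rw [BS_succ, AS_succ, mul_mul_mul_comm, ← map_mul, ← map_mul]
    have h1 := hI3 (χ 0) 1
    rw [if_pos rfl] at h1
    rcases m with _ | m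
    · rw [if_neg (by omega)]
      exact hc_kun_below D.aG (D.a (n + 1)) (D.a (n + 1 + 1)) (D.pr1 (n + 1)) (D.pr2 (n + 1)) (D.sq (n + 1))
        (D.w2 (n + 1)) _ _ ((isUnit_AS D ψ _).mul (isUnit_BS D _ _)) 1
        (fun q hq => by rw [hI3, if_neg (by omega)]) 0 (by omega)
    · rw [hc_kun D.aG (D.a (n + 1)) (D.a (n + 1 + 1)) (D.pr1 (n + 1)) (D.pr2 (n + 1)) (D.sq (n + 1))
        (D.w2 (n + 1)) _ _ ((isUnit_AS D ψ _).mul (isUnit_BS D _ _)) 1 1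
        (fun q hq => by rw [hI3, if_neg hq]) (by rw [h1, pow_one]) m, pow_one, ih]
      simp only [Nat.add_left_inj]

end Groth.Agent.Sga4h.H931.Tow
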