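import Groth.Agent.Sga4h.H931.KumDom
import Groth.Agent.Sga4h.H931.LocTr

/-!
# Points of the Jacobi variety and the value of a one-dimensional Frobenius

* `jacPt`, `jac_algHom_ext`, `jacEquiv`: algebra maps out of `JacAlg`.
* `finsum_jac`: sums over rational points.
* `frobC_smul`: Frobenius on a one-dimensional cohomology group from the trace formula.
-/

set_option autoImplicit false
universe u
open CategoryTheory CategoryTheory.Limits AlgebraicGeometry Opposite
open MvPolynomial

namespace Groth.Agent.Sga4h.H931.JacPts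

open Groth.Agent.Sga4h.H931.KumDom

section Alg

variable {k : Type*} [CommRing k] {n : ℕ} {B : Type*} [CommRing B] [Algebra k B]

theorem aux1 (v : Fin n → B) (hv : ∀ i, IsUnit (v i)) (i : Fin n) :
    IsUnit ((aeval v : MvPolynomial (Fin n) k →ₐ[k] B).toRingHom (X i)) := by
  change IsUnit (aeval v (X i))
  rw [aeval_X]
  exact hv i

theorem aux2 (v : Fin n → B) (h : 1 + ∑ i, v i = 0) :
    (aeval v : MvPolynomial (Fin n) k →ₐ[k] B).toRingHom (1 + ∑ i : Fin n, X i) = 0 := by
  rw [map_one_add_sum]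
  change 1 + ∑ i, aeval v (X i) = (0 : B)
  simp only [aeval_X]
  exact h

/-- The point of the Jacobi variety with given coordinates. -/
noncomputable def jacPt (v : Fin n → B) (hv : ∀ i, IsUnit (v i)) (h : 1 + ∑ i, v i = 0) : JacAlg k n →ₐ[k] B :=
  { jacLift (F := k) (aeval v : MvPolynomial (Fin n) k →ₐ[k] B).toRingHom (aux1 v hv) (aux2 v h) with
    commutes' := fun a => by
      have h1 : algebraMap k (JacAlg k n) a = algebraMap (MvPolynomial (Fin n) k) (JacAlg k n) (C a) := by
        rw [IsScalarTower.algebraMap_apply k (MvPolynomial (Fin n) k) (JacAlg k n)]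
        rfl
      change jacLift _ (aux1 v hv) (aux2 v h) (algebraMap k (JacAlg k n) a) = _
      rw [h1, jacLift_algebraMap]
      change aeval v (C a) = _
      rw [aeval_C] }

theorem jacPt_xc (v : Fin n → B) (hv : ∀ i, IsUnit (v i)) (h : 1 + ∑ i, v i = 0) (i : Fin n) :
    jacPt v hv h (xc k n i) = v i :=
  (jacLift_algebraMap (F := k) (aeval v : MvPolynomial (Fin n) k →ₐ[k] B).toRingHom (aux1 v hv) (aux2 v h) (X i)).trans
    (aeval_X v i)

theorem jac_algHom_ext {f g : JacAlg k n →ₐ[k] B} (h : ∀ i, f (xc k n i) = g (xc k n i)) : f = g := by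
  have h1 : f.toRingHom = g.toRingHom := by
    refine jac_ringHom_ext ?_
    refine MvPolynomial.ringHom_ext' ?_ ?_
    · ext a
      change f (algebraMap (MvPolynomial (Fin n) k) (JacAlg k n) (algebraMap k _ a)) =
        g (algebraMap (MvPolynomial (Fin n) k) (JacAlg k n) (algebraMap k _ a))
      rw [← IsScalarTower.algebraMap_apply k (MvPolynomial (Fin n) k) (JacAlg k n), f.commutes, g.commutes]
    · intro i
      exact h i
  ext r
  exact congrArg (fun φ : JacAlg k n →+* B => φ r) h1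

end Alg

section Pts

variable {k : Type*} [Field k] {n : ℕ}

/-- Rational points of the Jacobi variety. -/
noncomputable def jacEquiv : {v : Fin n → kˣ // ∑ i, ((v i : kˣ) : k) = -1} ≃ (JacAlg k n →ₐ[k] k) where
  toFun v := jacPt (fun i => ((v.1 i : kˣ) : k)) (fun i => (v.1 i).isUnit) (by rw [v.2]; ring)
  invFun f := ⟨fun i => ((isUnit_xc (F := k) i).map f).unit, by
    have h := congrArg f (one_add_sum_xc (F := k) (n := n))
    rw [map_zero, map_add, map_one, map_sum] at h
    change ∑ i, f (xc k n i) = -1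
    rw [eq_neg_iff_add_eq_zero, add_comm]
    exact h⟩
  left_inv v := by
    apply Subtype.ext
    funext i
    apply Units.ext
    exact jacPt_xc _ _ _ i
  right_inv f := jac_algHom_ext fun i => jacPt_xc _ _ _ i

theorem finsum_jac [Fintype k] [DecidableEq k] {M : Type*} [AddCommMonoid M] (f : (Fin n → k) → M) :
    ∑ᶠ x : JacAlg k n →ₐ[k] k, f (fun i => x (xc k n i)) =
      ∑ x ∈ (Finset.univ : Finset (Fin n → kˣ)).filter (fun x => ∑ i, ((x i : kˣ) : k) = -1),
        f (fun i => ((x i : kˣ) : k)) := by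
  classical
  rw [← finsum_comp_equiv (jacEquiv (k := k) (n := n)), finsum_eq_sum_of_fintype]
  have h : ∀ v : {v : Fin n → kˣ // ∑ i, ((v i : kˣ) : k) = -1}, (fun i => jacEquiv v (xc k n i)) =
      fun i => ((v.1 i : kˣ) : k) := fun v => funext fun i =>
    jacPt_xc _ (fun i => (v.1 i).isUnit) (by rw [v.2]; ring) i
  simp only [h]
  exact (Finset.sum_subtype (p := fun x : Fin n → kˣ => ∑ i, ((x i : kˣ) : k) = -1) _
    (fun x => by simp) (fun x => f (fun i => ((x i : kˣ) : k)))).symm

end Pts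

section Scalar

variable {Λ : Type*} [Field Λ] {M : Type*} [AddCommGroup M] [Module Λ M]

theorem eq_trace_smul_id (h : Module.finrank Λ M = 1) (f : M →ₗ[Λ] M) : f = LinearMap.trace Λ M f • LinearMap.id := by
  have : Module.Finite Λ M := Module.finite_of_finrank_eq_succ h
  let b : Module.Basis (Fin 1) Λ M := Module.finBasisOfFinrankEq Λ M h
  have h1 : ∀ x : M, x = b.repr x 0 • b 0 := fun x => by
    conv_lhs => rw [← b.sum_repr x]
    simp
  obtain ⟨c, hc⟩ : ∃ c : Λ, f = c • LinearMap.id := by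
    refine ⟨b.repr (f (b 0)) 0, LinearMap.ext fun x => ?_⟩
    rw [LinearMap.smul_apply, LinearMap.id_apply]
    conv_lhs => rw [h1 x, map_smul, h1 (f (b 0))]
    conv_rhs => rw [h1 x]
    rw [smul_smul, smul_smul, mul_comm]
  rw [hc, map_smul, LinearMap.trace_id, h, Nat.cast_one, smul_eq_mul, mul_one]

theorem finsum_trace (H : ℕ → Type*) [∀ i, AddCommGroup (H i)] [∀ i, Module Λ (H i)] (φ : ∀ i, H i →ₗ[Λ] H i) (n : ℕ)
    (h0 : ∀ i, i ≠ n → Subsingleton (H i)) :
    ∑ᶠ i : ℕ, (-1 : Λ) ^ i * LinearMap.trace Λ _ (φ i) = (-1 : Λ) ^ n * LinearMap.trace Λ _ (φ n) := by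
  refine finsum_eq_single _ n fun i hi => ?_
  have := h0 i hi
  have h : φ i = 0 := LinearMap.ext fun x => Subsingleton.elim _ _
  rw [h, map_zero, mul_zero]

theorem eq_smul_of_trace (H : ℕ → Type*) [∀ i, AddCommGroup (H i)] [∀ i, Module Λ (H i)] (φ : ∀ i, H i →ₗ[Λ] H i) (n : ℕ)
    (h0 : ∀ i, i ≠ n → Subsingleton (H i)) (h1 : Module.finrank Λ (H n) = 1) (S : Λ)
    (hS : S = ∑ᶠ i : ℕ, (-1 : Λ) ^ i * LinearMap.trace Λ _ (φ i)) :
    φ n = ((-1) ^ n * S) • LinearMap.id := by
  rw [finsum_trace H φ n h0] at hS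
  rw [hS, ← mul_assoc, ← mul_pow, neg_one_mul, neg_neg, one_pow, one_mul]
  exact eq_trace_smul_id h1 _

end Scalar

end Groth.Agent.Sga4h.H931.JacPts
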