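import Mathlib.FieldTheory.Finite.GaloisField
import Mathlib.NumberTheory.MulChar.Basic
import Mathlib.FieldTheory.IntermediateField.Adjoin.Basic
import Mathlib.FieldTheory.IsAlgClosed.Basic

/-!
# Non constancy of the trace function of a Jacobi sheaf

`mulChar_eq_one`: if `∏ χ_i (N_{E/k} x_i)` is constant on `{x ∈ (E^×)^N | ∑ x_i = -1}` for every finite
subextension `E` of `K / k` (`K` algebraically closed), `N ≥ 2`, then all `χ_i` are trivial.
-/

set_option autoImplicit false

open scoped BigOperators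

namespace Groth.Agent.Sga4h.H931.Arith

section Core

variable {F : Type*} [Field F] {G : Type*} [CommGroup G]

/-- A unit avoiding a finite set. -/
theorem exists_unit_notMem [Finite F] (s : Finset F) (h : s.card + 1 < Nat.card F) :
    ∃ t : Fˣ, (t : F) ∉ s := by
  classical
  have := Fintype.ofFinite F
  rw [Nat.card_eq_fintype_card] at h
  have h2 : (insert (0 : F) s).card < Fintype.card F :=
    lt_of_le_of_lt (Finset.card_insert_le _ _) h
  obtain ⟨t, ht⟩ : ∃ t, t ∉ insert (0 : F) s := by
    by_contra hcon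
    push Not at hcon
    have : (insert (0 : F) s) = Finset.univ := Finset.eq_univ_iff_forall.2 hcon
    rw [this, Finset.card_univ] at h2
    exact lt_irrefl _ h2
  rw [Finset.mem_insert, not_or] at ht
  exact ⟨Units.mk0 t ht.1, ht.2⟩

/-- `A(t)^2 B(t) = B(-1)` for `t ≠ 1`. -/
theorem step_one (A B : Fˣ →* G) (C : G) (h : ∀ t s : Fˣ, (t : F) + s = 1 → A t * B s = C)
    (t : Fˣ) (ht : t ≠ 1) : A t * A t * B t = B (-1) := by
  have ht' : (1 : F) - t ≠ 0 := fun h0 => ht (Units.ext (sub_eq_zero.1 h0).symm)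
  let s : Fˣ := Units.mk0 (1 - t) ht'
  have h1 : A t * B s = C := h t s (by simp [s])
  have h2 : A t⁻¹ * B (-(s * t⁻¹)) = C := by
    apply h
    have : (t : F) ≠ 0 := t.ne_zero
    simp only [Units.val_inv_eq_inv_val, Units.val_neg, Units.val_mul, s, Units.val_mk0]
    field_simp
    ring
  have h3 : B (-(s * t⁻¹)) = B (-1) * B s * (B t)⁻¹ := by
    rw [← map_inv, ← map_mul, ← map_mul]
    congr 1
    rw [neg_one_mul, neg_mul]
  rw [h3, map_inv] at h2
  rw [← h1] at h2
  -- (A t)⁻¹ * (B(-1) * B s * (B t)⁻¹) = A t * B s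
  have h4 : (A t)⁻¹ * (B (-1) * B s * (B t)⁻¹) = ((A t)⁻¹ * (B t)⁻¹ * B (-1)) * B s := by
    simp only [mul_comm, mul_left_comm, mul_assoc]
  rw [h4] at h2
  have h5 := mul_right_cancel h2
  have h6 : B (-1) = A t * B t * ((A t)⁻¹ * (B t)⁻¹ * B (-1)) := by
    simp only [mul_assoc, mul_left_comm (B t) (A t)⁻¹, mul_inv_cancel_left]
  rw [h5] at h6
  rw [h6]
  simp only [mul_comm, mul_left_comm, mul_assoc]

theorem step_two [Finite F] (hF : 5 ≤ Nat.card F) (A B : Fˣ →* G) (C : G)
    (h : ∀ t s : Fˣ, (t : F) + s = 1 → A t * B s = C) (t : Fˣ) : A t * A t * B t = 1 := by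
  classical
  obtain ⟨r, hr⟩ := exists_unit_notMem (F := F) {1, -1} (by
    have := Finset.card_le_two (a := (1 : F)) (b := -1)
    omega)
  simp only [Finset.mem_insert, Finset.mem_singleton, not_or] at hr
  have hr1 : r ≠ 1 := fun h0 => hr.1 (by rw [h0]; rfl)
  have hr2 : r * r ≠ 1 := by
    intro h0
    have h1 : (r : F) * r = 1 := by rw [← Units.val_mul, h0]; rfl
    rcases mul_self_eq_one_iff.1 h1 with h2 | h2
    · exact hr.1 h2
    · exact hr.2 h2
  have h1 := step_one A B C h r hr1
  have h2 := step_one A B C h (r * r) hr2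
  have h3 : B (-1) * B (-1) = B (-1) := by
    nth_rewrite 3 [← h2]
    rw [← h1]
    simp only [map_mul, mul_comm, mul_left_comm, mul_assoc]
  have h4 : B (-1) = 1 := by
    have := mul_eq_left.1 h3
    exact this
  by_cases ht : t = 1
  · subst ht
    simp
  · rw [step_one A B C h t ht, h4]

theorem core [Finite F] (hF : 5 ≤ Nat.card F) (A B : Fˣ →* G) (C : G)
    (h : ∀ t s : Fˣ, (t : F) + s = 1 → A t * B s = C) : A = 1 ∧ B = 1 := by
  classical
  have hA : ∀ t, A t * A t * B t = 1 := step_two hF A B C h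
  have hB : ∀ t, B t * B t * A t = 1 := step_two hF B A C (fun t s hts => by
    rw [mul_comm]
    exact h s t (by rw [add_comm]; exact hts))
  have h3 : ∀ t, A t = B t := by
    intro t
    have h1 := hA t
    have h2 := hB t
    rw [← h2] at h1
    have h3 : A t * (A t * B t) = B t * (A t * B t) := by
      rw [← mul_assoc, h1]
      simp only [mul_comm, mul_left_comm, mul_assoc]
    exact mul_right_cancel h3
  have h4 : ∀ t, A t * A t * A t = 1 := fun t => by
    have := hA t
    rwa [← h3] at this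
  have h5 : ∀ s r : Fˣ, ∀ q : Fˣ, (s : F) + r = q → A s * A r * A q = C := by
    intro s r q hq
    have h6 : A (s * q⁻¹) * B (r * q⁻¹) = C := by
      apply h
      rw [Units.val_mul, Units.val_mul, ← add_mul, hq]
      simp
    rw [← h3, map_mul, map_mul, map_inv] at h6
    rw [← h6]
    have h7 := h4 q
    have h8 : A q = (A q)⁻¹ * (A q)⁻¹ := by
      rw [← mul_inv_rev, eq_inv_iff_mul_eq_one, ← mul_assoc]
      exact h7
    nth_rewrite 1 [h8]
    simp only [mul_comm, mul_left_comm, mul_assoc]
  have h6 : ∀ r s : Fˣ, A r = A s := by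
    intro r s
    obtain ⟨t, ht⟩ := exists_unit_notMem (F := F) {-(s : F), -(r : F), -(s : F) - r} (by
      have := Finset.card_le_three (a := -(s : F)) (b := -(r : F)) (c := -(s : F) - r)
      omega)
    simp only [Finset.mem_insert, Finset.mem_singleton, not_or] at ht
    obtain ⟨h1, h2, h7⟩ := ht
    have e1 : (s : F) + t ≠ 0 := fun h0 => h1 (by linear_combination h0)
    have e2 : (t : F) + r ≠ 0 := fun h0 => h2 (by linear_combination h0)
    have e3 : (s : F) + t + r ≠ 0 := fun h0 => h7 (by linear_combination h0)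
    let st : Fˣ := Units.mk0 _ e1
    let tr : Fˣ := Units.mk0 _ e2
    let str : Fˣ := Units.mk0 _ e3
    have f1 := h5 s t st rfl
    have f2 := h5 t r tr rfl
    have f3 := h5 st r str rfl
    have f4 := h5 s tr str (by
      change (s : F) + (t + r) = s + t + r
      ring)
    have f5 : A st * A r = A s * A tr := mul_right_cancel (f3.trans f4.symm)
    -- A s * A t * A st = A t * A r * A tr
    have f6 : A s * A st = A r * A tr := by
      have : A t * (A s * A st) = A t * (A r * A tr) := by
        rw [← mul_assoc, ← mul_assoc, mul_comm (A t) (A s), f1, f2]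
      exact mul_left_cancel this
    -- A st = A s * A tr / A r ; so A s * A s * A tr = A r * A r * A tr
    have f7 : A s * A s = A r * A r := by
      have : A s * A s * A tr = A r * A r * A tr := by
        calc A s * A s * A tr = A s * (A s * A tr) := mul_assoc _ _ _
          _ = A s * (A st * A r) := by rw [f5]
          _ = (A s * A st) * A r := (mul_assoc _ _ _).symm
          _ = (A r * A tr) * A r := by rw [f6]
          _ = A r * A r * A tr := by
            simp only [mul_comm, mul_left_comm, mul_assoc]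
      exact mul_right_cancel this
    have f8 := h4 s
    have f9 := h4 r
    rw [f7] at f8
    rw [← f8] at f9
    exact mul_left_cancel f9
  have hA1 : A = 1 := by
    ext t
    rw [h6 t 1, map_one]
    rfl
  refine ⟨hA1, ?_⟩
  ext t
  rw [← h3, hA1]

end Core

section Many

variable {F : Type*} [Field F]

theorem exists_sum_ne [Finite F] (hF : 5 ≤ Nat.card F) {ι : Type*} [DecidableEq ι] (S : Finset ι) (c : F)
    (hc : S.Nonempty ∨ c ≠ 0) : ∃ w : ι → Fˣ, c + ∑ l ∈ S, (w l : F) ≠ 0 := by
  classical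
  rcases S.eq_empty_or_nonempty with h | ⟨a, ha⟩
  · subst h
    refine ⟨fun _ => 1, ?_⟩
    simpa using hc
  · obtain ⟨t, ht⟩ := exists_unit_notMem (F := F) {-(c + ∑ l ∈ S.erase a, (1 : F))} (by
      rw [Finset.card_singleton]; omega)
    rw [Finset.mem_singleton] at ht
    refine ⟨Function.update (fun _ => 1) a t, ?_⟩
    rw [← Finset.add_sum_erase _ _ ha, Function.update_self]
    have : ∑ l ∈ S.erase a, ((Function.update (fun _ => (1 : Fˣ)) a t l : Fˣ) : F) =
        ∑ l ∈ S.erase a, (1 : F) := by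
      refine Finset.sum_congr rfl fun l hl => ?_
      rw [Function.update_of_ne (Finset.ne_of_mem_erase hl)]
      rfl
    rw [this]
    intro h0
    exact ht (by linear_combination h0)

/-- Non constancy of `∏ ψ_i(x_i)` on `∑ x_i = -1`. -/
theorem many [Finite F] (hF : 5 ≤ Nat.card F) {G : Type*} [CommGroup G] {ι : Type*} [Fintype ι]
    (ψ : ι → Fˣ →* G) (h : ∀ x y : ι → Fˣ, ∑ i, (x i : F) = -1 → ∑ i, (y i : F) = -1 →
      ∏ i, ψ i (x i) = ∏ i, ψ i (y i)) (i j : ι) (hij : i ≠ j) : ψ i = 1 := by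
  classical
  let S : Finset ι := (Finset.univ.erase i).erase j
  obtain ⟨w, hw⟩ := exists_sum_ne (F := F) hF S 1 (Or.inr one_ne_zero)
  let s : Fˣ := Units.mk0 _ (neg_ne_zero.2 hw)
  have hj : j ∈ Finset.univ.erase i := Finset.mem_erase.2 ⟨hij.symm, Finset.mem_univ _⟩
  have hsum : ∀ {M : Type _} [AddCommMonoid M] (f : ι → M),
      ∑ l, f l = f i + (f j + ∑ l ∈ S, f l) := by
    intro M _ f
    rw [← Finset.add_sum_erase _ _ (Finset.mem_univ i), ← Finset.add_sum_erase _ _ hj]
  have hprod : ∀ (f : ι → G), ∏ l, f l = f i * (f j * ∏ l ∈ S, f l) := by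
    intro f
    rw [← Finset.mul_prod_erase _ _ (Finset.mem_univ i), ← Finset.mul_prod_erase _ _ hj]
  let x : Fˣ → Fˣ → ι → Fˣ := fun t t' => Function.update (Function.update w i (s * t)) j (s * t')
  have xi : ∀ t t', x t t' i = s * t := fun t t' => by
    simp only [x]
    rw [Function.update_of_ne hij, Function.update_self]
  have xj : ∀ t t', x t t' j = s * t' := fun t t' => by
    simp only [x]
    rw [Function.update_self]
  have xS : ∀ t t', ∀ l ∈ S, x t t' l = w l := fun t t' l hl => by
    have h1 : l ≠ j := Finset.ne_of_mem_erase hl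
    have h2 : l ≠ i := Finset.ne_of_mem_erase (Finset.mem_of_mem_erase hl)
    simp only [x]
    rw [Function.update_of_ne h1, Function.update_of_ne h2]
  have hx : ∀ t t' : Fˣ, (t : F) + t' = 1 → ∑ l, (x t t' l : F) = -1 := by
    intro t t' ht
    rw [hsum, xi, xj, Finset.sum_congr rfl fun l hl => congrArg Units.val (xS t t' l hl)]
    have hs : (s : F) = -(1 + ∑ l ∈ S, (w l : F)) := rfl
    rw [Units.val_mul, Units.val_mul]
    linear_combination (s : F) * ht + hs
  obtain ⟨t₀, ht₀⟩ := exists_unit_notMem (F := F) {1} (by rw [Finset.card_singleton]; omega)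
  rw [Finset.mem_singleton] at ht₀
  let s₀ : Fˣ := Units.mk0 (1 - t₀) (sub_ne_zero.2 (Ne.symm ht₀))
  have h₀ : (t₀ : F) + s₀ = 1 := by
    change (t₀ : F) + (1 - t₀) = 1
    ring
  refine (core hF (ψ i) (ψ j) (ψ i t₀ * ψ j s₀) ?_).1
  intro t t' ht
  have h1 := h (x t t') (x t₀ s₀) (hx _ _ ht) (hx _ _ h₀)
  rw [hprod, hprod, xi, xj, xi, xj, Finset.prod_congr rfl fun l hl => congrArg (ψ l) (xS t t' l hl),
    Finset.prod_congr rfl fun l hl => congrArg (ψ l) (xS t₀ s₀ l hl), ← mul_assoc, ← mul_assoc] at h1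
  have h2 := mul_right_cancel h1
  simp only [map_mul] at h2
  have h3 : (ψ i s * ψ j s) * (ψ i t * ψ j t') = (ψ i s * ψ j s) * (ψ i t₀ * ψ j s₀) := by
    have e1 : (ψ i s * ψ j s) * (ψ i t * ψ j t') = ψ i s * ψ i t * (ψ j s * ψ j t') :=
      mul_mul_mul_comm _ _ _ _
    have e2 : (ψ i s * ψ j s) * (ψ i t₀ * ψ j s₀) = ψ i s * ψ i t₀ * (ψ j s * ψ j s₀) :=
      mul_mul_mul_comm _ _ _ _
    rw [e1, e2, h2]
  exact mul_left_cancel h3

end Many

section Norm

variable (k K : Type*) [Field k] [Finite k] [Field K] [Algebra k K]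

theorem exists_large [IsAlgClosed K] [Algebra.IsAlgebraic k K] (n : ℕ) :
    ∃ E : IntermediateField k K, Finite E ∧ n ≤ Nat.card E := by
  classical
  have : Infinite K := IsAlgClosed.instInfinite
  obtain ⟨s, hs⟩ := Infinite.exists_subset_card_eq K n
  let E := IntermediateField.adjoin k (s : Set K)
  have h1 : FiniteDimensional k E := by
    have : Finite (s : Set K) := s.finite_toSet
    exact IntermediateField.finiteDimensional_adjoin fun x _ => Algebra.IsIntegral.isIntegral x
  have h2 : Finite E := Module.finite_of_finite k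
  refine ⟨E, h2, ?_⟩
  rw [← hs, ← Nat.card_eq_finsetCard s]
  refine Nat.card_le_card_of_injective (fun x : s => (⟨x, IntermediateField.subset_adjoin k _ x.2⟩ : E)) ?_
  intro x y hxy
  exact Subtype.ext (congrArg (fun z : E => (z : K)) hxy)

variable {k K}

/-- If the trace function of a Jacobi sheaf is constant on the points with values in any finite
extension, then all the characters are trivial. -/
theorem mulChar_eq_one [IsAlgClosed K] [Algebra.IsAlgebraic k K] {Λ : Type*} [CommRing Λ]
    {N : ℕ} (hN : 2 ≤ N) (χ : Fin N → MulChar k Λ)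
    (h : ∀ (E : IntermediateField k K) [Finite E] (x y : Fin N → Eˣ), ∑ i, (x i : E) = -1 →
      ∑ i, (y i : E) = -1 →
      ∏ i, χ i (Algebra.norm k (x i : E)) = ∏ i, χ i (Algebra.norm k (y i : E))) (i : Fin N) :
    χ i = 1 := by
  classical
  obtain ⟨E, hE, hc⟩ := exists_large k K 5
  let ψ : Fin N → Eˣ →* Λˣ := fun l =>
    (χ l).toUnitHom.comp (Units.map (Algebra.norm k (S := E)))
  have hψ : ∀ l (x : Eˣ), ((ψ l x : Λˣ) : Λ) = χ l (Algebra.norm k (x : E)) := fun l x => by
    simp only [ψ, MonoidHom.comp_apply]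
    rw [MulChar.coe_toUnitHom]
    rfl
  obtain ⟨j, hj⟩ : ∃ j : Fin N, i ≠ j := by
    by_cases h0 : i = ⟨0, by omega⟩
    · refine ⟨⟨1, by omega⟩, ?_⟩
      rw [h0]
      intro h1
      simp at h1
    · exact ⟨_, h0⟩
  have h1 := many hc ψ (fun x y hx hy => by
    apply Units.ext
    rw [Units.coe_prod, Units.coe_prod]
    simp only [hψ]
    exact h E x y hx hy) i j hj
  rw [MulChar.eq_one_iff]
  intro a
  obtain ⟨b, hb⟩ := FiniteField.unitsMap_norm_surjective k E a
  rw [← hb]
  have h2 := congrArg (fun f : Eˣ →* Λˣ => ((f b : Λˣ) : Λ)) h1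
  simp only [hψ] at h2
  exact h2

end Norm

end Groth.Agent.Sga4h.H931.Arith
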