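import Groth.Prelude.Def_LangSh
import Groth.Agent.EtpbcB.HRel

/-!
# Local traces of Frobenius computed on `Spec K`

* `viaLin`: `Λ`-linear version of `EtCore.HpullVia`.
* `mapLin`: the `Λ`-linear map on cohomology induced by an equivariant morphism.
* `trace_viaLin_iso`, `trace_viaLin_pull`: transport of traces.
-/

set_option autoImplicit false
universe u
open CategoryTheory CategoryTheory.Limits AlgebraicGeometry Opposite
open CategoryTheory.Abelian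

namespace Groth.Agent.Sga4h.H931.GalTr

open Groth.Agent.EtpbcB.HRel Groth.Agent.Etcore.PullCoh Groth.Agent.Sga4B.ExtCmp

variable {Λ : Type} [CommRing Λ]

/-- `Λ`-linear relative pullback. -/
noncomputable def viaLin {X Y Z : Scheme.{u}} (f : X ⟶ Y) (t : Y ⟶ Z) (f₀ : X ⟶ Z) (w : f ≫ t = f₀)
    (L : EtLam.Sheaf Λ Z) (n : ℕ) :
    EtCoh.H Y (EtLam.pullback t L).carrier n →ₗ[Λ] EtCoh.H X (EtLam.pullback f₀ L).carrier n where
  toFun := EtCore.HpullVia f t f₀ w L.carrier n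
  map_add' := (EtCore.HpullVia f t f₀ w L.carrier n).map_add'
  map_smul' r x := EtCore.HpullVia_natural f t f₀ w (L.act r) n x

/-- The `Λ`-linear map on cohomology induced by an equivariant morphism of sheaves. -/
noncomputable def mapLin {X : Scheme.{u}} {F F' : EtLam.Sheaf Λ X} (θ : F.carrier ⟶ F'.carrier)
    (h : ∀ r, (F.act r : F.carrier ⟶ F.carrier) ≫ θ = θ ≫ (F'.act r : F'.carrier ⟶ F'.carrier)) (n : ℕ) :
    EtCoh.H X F.carrier n →ₗ[Λ] EtCoh.H X F'.carrier n where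
  toFun := Sheaf.H.map θ n
  map_add' := (Sheaf.H.map θ n).map_add'
  map_smul' r ξ := by
    change Sheaf.H.map _ n (Sheaf.H.map (F.act r : F.carrier ⟶ F.carrier) n ξ) =
      Sheaf.H.map (F'.act r : F'.carrier ⟶ F'.carrier) n (Sheaf.H.map _ n ξ)
    rw [← Sheaf.H.map_comp_apply, ← Sheaf.H.map_comp_apply, h]

theorem bijective_mapLin {X : Scheme.{u}} {F F' : EtLam.Sheaf Λ X} (θ : F.carrier ⟶ F'.carrier) [IsIso θ]
    (h : ∀ r, (F.act r : F.carrier ⟶ F.carrier) ≫ θ = θ ≫ (F'.act r : F'.carrier ⟶ F'.carrier)) (n : ℕ) :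
    Function.Bijective (mapLin θ h n) :=
  ConcreteCategory.bijective_of_isIso ((EtCoh.HF X n).map θ)

theorem viaLin_comp {X Y Z T : Scheme.{u}} (f : X ⟶ Y) (g : Y ⟶ Z) (h : X ⟶ Z)
    (tX : X ⟶ T) (tY : Y ⟶ T) (tZ : Z ⟶ T) (w : f ≫ g = h) (wf : f ≫ tY = tX)
    (wg : g ≫ tZ = tY) (wh : h ≫ tZ = tX) (L : EtLam.Sheaf Λ T) (p : ℕ) :
    viaLin f tY tX wf L p ∘ₗ viaLin g tZ tY wg L p = viaLin h tZ tX wh L p :=
  LinearMap.ext fun ξ => HpullVia_comp f g h tX tY tZ w wf wg wh L.carrier p ξ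

theorem trace_eq {M N : Type*} [AddCommGroup M] [Module Λ M] [AddCommGroup N] [Module Λ N]
    (E : M →ₗ[Λ] N) (hE : Function.Bijective E) (f : M →ₗ[Λ] M) (g : N →ₗ[Λ] N) (h : g ∘ₗ E = E ∘ₗ f) :
    LinearMap.trace Λ _ f = LinearMap.trace Λ _ g := by
  rw [← LinearMap.trace_conj' f (LinearEquiv.ofBijective E hE)]
  congr 1
  rw [LinearEquiv.conj_apply, eq_comm, LinearEquiv.eq_comp_toLinearMap_symm]
  exact h

theorem trace_viaLin_iso {X Y T : Scheme.{u}} (e : X ⟶ Y) [IsIso e] (s : X ⟶ X) (s' : Y ⟶ Y)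
    (h : s ≫ e = e ≫ s') (t : X ⟶ T) (t' : Y ⟶ T) (w : e ≫ t' = t) (ws : s ≫ t = t) (ws' : s' ≫ t' = t')
    (L : EtLam.Sheaf Λ T) (n : ℕ) :
    LinearMap.trace Λ _ (viaLin s t t ws L n) = LinearMap.trace Λ _ (viaLin s' t' t' ws' L n) :=
  (trace_eq (viaLin e t' t w L n) (bijective_HpullVia e t' t w L.carrier n) _ _
    ((viaLin_comp s e (s ≫ e) t t t' rfl ws w (by rw [Category.assoc, w, ws]) L n).trans
      (viaLin_comp e s' (s ≫ e) t t' t' h.symm w ws' (by rw [Category.assoc, w, ws]) L n).symm)).symm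

theorem HpullVia_map_th {X Y Z : Scheme.{u}} (s : X ⟶ X) (t : X ⟶ Y) (x : Y ⟶ Z) (ws : s ≫ t = t)
    (ws' : s ≫ t ≫ x = t ≫ x) (G : EtCoh.Ab Z) (n : ℕ) (ξ : EtCoh.H X ((EtCoh.pull t).obj ((EtCoh.pull x).obj G)) n) :
    Sheaf.H.map (th t x (t ≫ x) rfl G) n (EtCore.HpullVia s t t ws ((EtCoh.pull x).obj G) n ξ) =
      EtCore.HpullVia s (t ≫ x) (t ≫ x) ws' G n (Sheaf.H.map (th t x (t ≫ x) rfl G) n ξ) := by
  rw [Sheaf.H.map_apply, Sheaf.H.map_apply, HpullVia_eq, HpullVia_eq, cmp_mk₀,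
    Ext.comp_assoc_of_third_deg_zero, Ext.comp_assoc_of_third_deg_zero, Ext.mk₀_comp_mk₀, Ext.mk₀_comp_mk₀,
    th_assoc s t x t (t ≫ x) (t ≫ x) ws rfl ws' rfl G]

theorem trace_viaLin_pull {X Y Z : Scheme.{u}} (s : X ⟶ X) (t : X ⟶ Y) (x : Y ⟶ Z) (ws : s ≫ t = t)
    (ws' : s ≫ t ≫ x = t ≫ x) (L : EtLam.Sheaf Λ Z) (n : ℕ) :
    LinearMap.trace Λ _ (viaLin s t t ws (EtLam.pullback x L) n) =
      LinearMap.trace Λ _ (viaLin s (t ≫ x) (t ≫ x) ws' L n) :=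
  haveI : IsIso (X := (EtLam.pullback t (EtLam.pullback x L)).carrier) (Y := (EtLam.pullback (t ≫ x) L).carrier)
    (th t x (t ≫ x) rfl L.carrier) := inferInstanceAs (IsIso (th t x (t ≫ x) rfl L.carrier))
  trace_eq (mapLin (F := EtLam.pullback t (EtLam.pullback x L)) (F' := EtLam.pullback (t ≫ x) L)
      (th t x (t ≫ x) rfl L.carrier) (fun r => th_nat t x (t ≫ x) rfl (L.act r)) n)
    (bijective_mapLin _ _ n) _ _
    (LinearMap.ext fun ξ => (HpullVia_map_th s t x ws ws' L.carrier n ξ).symm)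

end Groth.Agent.Sga4h.H931.GalTr
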