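import Groth.Agent.Sga4h.H931.Pic
import Groth.Agent.Sga4h.H299.HcK

/-!
# Orders of the cohomology groups with compact supports of a class of sheaves of modules

`hc a c m` is the order of `H^m(P, j_! M)`, `M` in the class `c` of sheaves of modules on `X`, `a : X ⟶ Spec K`,
`j : X ⟶ P` any compactification.
* `hc_eq`: independence of the compactification and of the representative;
* `hc_iso`: isomorphic schemes; `hc_open`, `hc_closed`: excision; `hc_kun`, `hc_kun_below`, `hc_kun_zero`: Künneth.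
-/

set_option autoImplicit false
universe u
open CategoryTheory CategoryTheory.Limits AlgebraicGeometry Opposite MonoidalCategory

namespace Groth.Agent.Sga4h.H931.HcCls

open scoped Groth.Agent.Sga5.H835.MonEt
open Groth.Agent.Sga4h.H299 Groth.Agent.Sga4h.H931.Pic Groth.Agent.Sga4h.H299.HcK

/-- Torsion coefficient rings. -/
class Tors (Λ : Type*) [CommRing Λ] : Prop where
  ex : ∃ n : ℕ, 0 < n ∧ (n : Λ) = 0

/-- Separated of finite type. -/
class Good {X S : Scheme.{u}} (a : X ⟶ S) : Prop where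
  sep : IsSeparated a
  qc : QuasiCompact a
  ft : LocallyOfFiniteType a

theorem good_of {X S : Scheme.{u}} (a : X ⟶ S) [h1 : IsSeparated a] [h2 : QuasiCompact a]
    [h3 : LocallyOfFiniteType a] : Good a := ⟨h1, h2, h3⟩

variable {K : Type u} [Field K]

/-- Compactifications. -/
structure Cpt {X : Scheme.{u}} (a : X ⟶ Spec (CommRingCat.of K)) where
  /-- the proper scheme -/
  P : Scheme.{u}
  /-- the open immersion -/
  j : X ⟶ P
  /-- the structure morphism -/
  p : P ⟶ Spec (CommRingCat.of K)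
  hj : IsOpenImmersion j
  hp : IsProper p
  w : j ≫ p = a

attribute [instance] Cpt.hj Cpt.hp

theorem Cpt.qc {X : Scheme.{u}} {a : X ⟶ Spec (CommRingCat.of K)} [Good a] (C : Cpt a) : QuasiCompact C.j := by
  have h : QuasiCompact (C.j ≫ C.p) := by
    rw [C.w]
    exact Good.qc
  exact QuasiCompact.of_comp C.j C.p

theorem nonempty_cpt {X : Scheme.{u}} (a : X ⟶ Spec (CommRingCat.of K)) [h : Good a] : Nonempty (Cpt a) := by
  have := h.sep
  have := h.qc
  have := h.ft
  obtain ⟨P, j, p, h1, -, h2, h3⟩ := exists_compactification a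
  exact ⟨⟨P, j, p, h1, h2, h3⟩⟩

variable {Λ : Type (u + 1)} [CommRing Λ] {X Y Z : Scheme.{u}}

/-- The order of the cohomology group with compact supports with respect to a compactification. -/
noncomputable def hcc {a : X ⟶ Spec (CommRingCat.of K)} (C : Cpt a) (c : Pc Λ X) (m : ℕ) : ℕ :=
  Nat.card (HcG C.j (Quotient.out c : EtModW.Mod Λ X) m)

theorem hcc_cls {a : X ⟶ Spec (CommRingCat.of K)} (C : Cpt a) (M : EtModW.Mod Λ X) (m : ℕ) :
    hcc C (cls M) m = Nat.card (HcG C.j M m) := by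
  obtain ⟨e⟩ := hc_congr C.j (nonempty_out M).some m
  exact Nat.card_congr e.toEquiv

/-- The order of the cohomology group with compact supports. -/
noncomputable def hc (a : X ⟶ Spec (CommRingCat.of K)) (c : Pc Λ X) (m : ℕ) : ℕ :=
  haveI := Classical.propDecidable (Nonempty (Cpt a))
  if h : Nonempty (Cpt a) then hcc h.some c m else 0

variable [IsSepClosed K] [Tors Λ]

theorem hc_eq {a : X ⟶ Spec (CommRingCat.of K)} [Good a] (C : Cpt a) (c : Pc Λ X) (m : ℕ) :
    hc a c m = hcc C c m := by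
  obtain ⟨M, rfl⟩ := exists_cls c
  obtain ⟨n, hn0, hn⟩ := Tors.ex (Λ := Λ)
  have h : Nonempty (Cpt a) := ⟨C⟩
  rw [hc, dif_pos h, hcc_cls, hcc_cls]
  have := (h.some).qc
  obtain ⟨e⟩ := HcK.hc_indep hn0 hn h.some.j h.some.p C.j C.p (h.some.w.trans C.w.symm) M m
  exact Nat.card_congr e.toEquiv

/-- The value of `hc` by a compactification. -/
theorem hc_cls {a : X ⟶ Spec (CommRingCat.of K)} [Good a] {P : Scheme.{u}} (j : X ⟶ P)
    (p : P ⟶ Spec (CommRingCat.of K)) [IsOpenImmersion j] [IsProper p] (w : j ≫ p = a)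
    (M : EtModW.Mod Λ X) (m : ℕ) : hc a (cls M) m = Nat.card (HcG j M m) :=
  (hc_eq (⟨P, j, p, inferInstance, inferInstance, w⟩ : Cpt a) (cls M) m).trans (hcc_cls _ M m)

theorem card_eq_one {α : Type*} [h : Nonempty α] : Nat.card α = 1 ↔ Subsingleton α := by
  rw [Nat.card_eq_one_iff_unique]
  exact ⟨fun h => h.1, fun h' => ⟨h', h⟩⟩

theorem hc_iso {X' : Scheme.{u}} (a : X ⟶ Spec (CommRingCat.of K)) (a' : X' ⟶ Spec (CommRingCat.of K)) [Good a]
    [Good a'] (φ : X' ⟶ X) [IsIso φ] (w : φ ≫ a = a') (c : Pc Λ X) (m : ℕ) : hc a' (pb φ c) m = hc a c m := by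
  obtain ⟨M, rfl⟩ := exists_cls c
  obtain ⟨n, hn0, hn⟩ := Tors.ex (Λ := Λ)
  obtain ⟨C⟩ := nonempty_cpt a
  obtain ⟨C'⟩ := nonempty_cpt a'
  have := C.qc
  have := C'.qc
  rw [pb_cls, hc_cls C.j C.p C.w, hc_cls C'.j C'.p C'.w]
  obtain ⟨e⟩ := HcK.hc_iso hn0 hn C.j C.p C'.j C'.p φ (by rw [C.w, C'.w, w]) M m
  exact (Nat.card_congr e.toEquiv).symm

section Exc

variable {U : Scheme.{u}} (j : U ⟶ X) [IsOpenImmersion j] [QuasiCompact j] (b : Z ⟶ X) [IsClosedImmersion b]
  (a : X ⟶ Spec (CommRingCat.of K)) [Good a]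

omit [IsSepClosed K] in
include a in
theorem good_comp_open (aU : U ⟶ Spec (CommRingCat.of K)) (wU : j ≫ a = aU) : Good aU := by
  have := Good.sep (a := a)
  have := Good.qc (a := a)
  have := Good.ft (a := a)
  subst wU
  exact good_of _

omit [IsSepClosed K] in
include a in
theorem good_comp_closed (aZ : Z ⟶ Spec (CommRingCat.of K)) (wZ : b ≫ a = aZ) : Good aZ := by
  have := Good.sep (a := a)
  have := Good.qc (a := a)
  have := Good.ft (a := a)
  subst wZ
  exact good_of _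

variable (aU : U ⟶ Spec (CommRingCat.of K)) (aZ : Z ⟶ Spec (CommRingCat.of K)) (wU : j ≫ a = aU) (wZ : b ≫ a = aZ)

include wU wZ in
/-- If the closed part has no cohomology. -/
theorem hc_open (hr : Set.range j = (Set.range b)ᶜ) (c : Pc Λ X) (h : ∀ q, hc aZ (pb b c) q = 1) (m : ℕ) :
    hc aU (pb j c) m = hc a c m := by
  obtain ⟨M, rfl⟩ := exists_cls c
  obtain ⟨n, hn0, hn⟩ := Tors.ex (Λ := Λ)
  have := good_comp_open j a aU wU
  have := good_comp_closed b a aZ wZ
  obtain ⟨C⟩ := nonempty_cpt a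
  obtain ⟨CU⟩ := nonempty_cpt aU
  obtain ⟨CZ⟩ := nonempty_cpt aZ
  have := C.qc
  rw [pb_cls, hc_cls C.j C.p C.w, hc_cls CU.j CU.p CU.w]
  obtain ⟨e⟩ := HcK.hc_open j b C.j C.p CU.j CU.p CZ.j CZ.p hn0 hn hr (by rw [CU.w, C.w, wU])
    (by rw [CZ.w, C.w, wZ]) M (fun q => by
      have h1 := h q
      rw [pb_cls, hc_cls CZ.j CZ.p CZ.w] at h1
      exact card_eq_one.1 h1) m
  exact Nat.card_congr e.toEquiv

include wU wZ in
/-- If the open part has no cohomology. -/
theorem hc_closed (hr : Set.range j = (Set.range b)ᶜ) (c : Pc Λ X) (h : ∀ q, hc aU (pb j c) q = 1) (m : ℕ) :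
    hc a c m = hc aZ (pb b c) m := by
  obtain ⟨M, rfl⟩ := exists_cls c
  obtain ⟨n, hn0, hn⟩ := Tors.ex (Λ := Λ)
  have := good_comp_open j a aU wU
  have := good_comp_closed b a aZ wZ
  obtain ⟨C⟩ := nonempty_cpt a
  obtain ⟨CU⟩ := nonempty_cpt aU
  obtain ⟨CZ⟩ := nonempty_cpt aZ
  have := C.qc
  rw [pb_cls, hc_cls C.j C.p C.w, hc_cls CZ.j CZ.p CZ.w]
  obtain ⟨e⟩ := HcK.hc_closed j b C.j C.p CU.j CU.p CZ.j CZ.p hn0 hn hr (by rw [CU.w, C.w, wU])
    (by rw [CZ.w, C.w, wZ]) M (fun q => by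
      have h1 := h q
      rw [pb_cls, hc_cls CU.j CU.p CU.w] at h1
      exact card_eq_one.1 h1) m
  exact Nat.card_congr e.toEquiv

end Exc

end Groth.Agent.Sga4h.H931.HcCls
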