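import Groth.Agent.Sga4h.H931.HcCls

/-!
# Künneth formula for the orders of the cohomology groups with compact supports
-/

set_option autoImplicit false
universe u
open CategoryTheory CategoryTheory.Limits AlgebraicGeometry Opposite MonoidalCategory

namespace Groth.Agent.Sga4h.H931.HcKun

open scoped Groth.Agent.Sga5.H835.MonEt
open Groth.Agent.Sga4h.H299 Groth.Agent.Sga4h.H931.Pic Groth.Agent.Sga4h.H299.HcK Groth.Agent.Sga4h.H931.HcCls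

instance tors_of_finite (Λ : Type*) [CommRing Λ] [Finite Λ] : Tors Λ :=
  ⟨⟨Nat.card Λ, Nat.card_pos, by
    have h : Nat.card Λ • (1 : Λ) = 0 := card_nsmul_eq_zero'
    rwa [nsmul_eq_mul, mul_one] at h⟩⟩

theorem exists_inverse {Λ : Type (u + 1)} [CommRing Λ] {X : Scheme.{u}} {M : EtModW.Mod Λ X}
    (h : IsUnit (cls M)) : ∃ N' : EtModW.Mod Λ X, Nonempty ((Proj.T M).obj N' ≅ EtModW.constMod Λ X Λ) := by
  obtain ⟨d, hd⟩ := isUnit_iff_exists_inv.1 h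
  obtain ⟨N', rfl⟩ := exists_cls d
  rw [← cls_T, ← cls_const, cls_eq_iff] at hd
  exact ⟨N', hd⟩

variable {K : Type u} [Field K] [IsSepClosed K] {Λ : Type (u + 1)} [Field Λ] [Finite Λ] {X Y Z : Scheme.{u}}
  (a : X ⟶ Spec (CommRingCat.of K)) (b : Y ⟶ Spec (CommRingCat.of K)) (e : Z ⟶ Spec (CommRingCat.of K))
  [Good a] [Good b] [Good e] (pr1 : Z ⟶ X) (pr2 : Z ⟶ Y)

/-- **Künneth formula**. -/
theorem hc_kun (h : IsPullback pr1 pr2 a b) (w : pr2 ≫ b = e) (c : Pc Λ X) (d : Pc Λ Y) (hd : IsUnit d) (r s : ℕ)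
    (h0 : ∀ q, q ≠ r → hc a c q = 1) (h1 : hc a c r = Nat.card Λ ^ s) (m : ℕ) :
    hc e (pb pr1 c * pb pr2 d) (m + r) = hc b d m ^ s := by
  obtain ⟨M, rfl⟩ := exists_cls c
  obtain ⟨N, rfl⟩ := exists_cls d
  obtain ⟨N', ⟨pN⟩⟩ := exists_inverse hd
  obtain ⟨n, hn0, hn⟩ := Tors.ex (Λ := Λ)
  obtain ⟨A⟩ := nonempty_cpt a
  obtain ⟨B⟩ := nonempty_cpt b
  obtain ⟨E⟩ := nonempty_cpt e
  have := A.qc
  have := B.qc
  rw [mul_comm, pb_cls, pb_cls, ← cls_T, hc_cls E.j E.p E.w, hc_cls B.j B.p B.w]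
  refine KunF.card_kunneth (jX := A.j) (p := A.p) (jY := B.j) (r := B.p) (l := E.j) (e := E.p) hn0 hn
    (by rw [A.w, B.w]; exact h) (by rw [E.w, B.w, w]) M pN r s (fun q hq => ?_) ?_ m
  · have h2 := h0 q hq
    rw [hc_cls A.j A.p A.w] at h2
    exact card_eq_one.1 h2
  · rw [hc_cls A.j A.p A.w] at h1
    exact h1

/-- Vanishing in low degrees. -/
theorem hc_kun_below (h : IsPullback pr1 pr2 a b) (w : pr2 ≫ b = e) (c : Pc Λ X) (d : Pc Λ Y) (hd : IsUnit d) (r : ℕ)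
    (h0 : ∀ q, q < r → hc a c q = 1) (m : ℕ) (hm : m < r) : hc e (pb pr1 c * pb pr2 d) m = 1 := by
  obtain ⟨M, rfl⟩ := exists_cls c
  obtain ⟨N, rfl⟩ := exists_cls d
  obtain ⟨N', ⟨pN⟩⟩ := exists_inverse hd
  obtain ⟨n, hn0, hn⟩ := Tors.ex (Λ := Λ)
  obtain ⟨A⟩ := nonempty_cpt a
  obtain ⟨B⟩ := nonempty_cpt b
  obtain ⟨E⟩ := nonempty_cpt e
  have := A.qc
  have := B.qc
  rw [mul_comm, pb_cls, pb_cls, ← cls_T, hc_cls E.j E.p E.w]
  refine card_eq_one.2 (KunF.subsingleton_kunneth_below (jX := A.j) (p := A.p) (jY := B.j) (r := B.p) (l := E.j)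
    (e := E.p) hn0 hn (by rw [A.w, B.w]; exact h) (by rw [E.w, B.w, w]) M pN r (fun q hq => ?_) m hm)
  have h2 := h0 q hq
  rw [hc_cls A.j A.p A.w] at h2
  exact card_eq_one.1 h2

/-- Vanishing. -/
theorem hc_kun_zero (h : IsPullback pr1 pr2 a b) (w : pr2 ≫ b = e) (c : Pc Λ X) (d : Pc Λ Y) (hd : IsUnit d)
    (h0 : ∀ q, hc a c q = 1) (m : ℕ) : hc e (pb pr1 c * pb pr2 d) m = 1 :=
  hc_kun_below a b e pr1 pr2 h w c d hd (m + 1) (fun q _ => h0 q) m (by omega)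

/-- Vanishing, the other factor. -/
theorem hc_kun_zero' (h : IsPullback pr1 pr2 a b) (w : pr1 ≫ a = e) (c : Pc Λ X) (d : Pc Λ Y) (hc' : IsUnit c)
    (h0 : ∀ q, hc b d q = 1) (m : ℕ) : hc e (pb pr1 c * pb pr2 d) m = 1 := by
  rw [mul_comm]
  exact hc_kun_zero b a e pr2 pr1 h.flip w d c hc' h0 m

end Groth.Agent.Sga4h.H931.HcKun
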