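import Mathlib.RingTheory.Polynomial.Eisenstein.Criterion
import Mathlib.RingTheory.Polynomial.UniqueFactorization
import Mathlib.Algebra.MvPolynomial.PDeriv
import Mathlib.Algebra.MvPolynomial.Equiv
import Mathlib.RingTheory.MvPolynomial.Basic
import Mathlib.RingTheory.Localization.Away.Basic
import Mathlib.RingTheory.Localization.Ideal
import Mathlib.RingTheory.MvPolynomial.Homogeneous
import Mathlib.Algebra.Squarefree.Basic
import Mathlib.Algebra.MvPolynomial.Division

/-!
# Irreducibility of the Fermat polynomial `1 + ∑ X_i ^ m`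
-/

set_option autoImplicit false

open scoped BigOperators
open MvPolynomial

namespace Groth.Agent.Sga4h.H931.Irred

variable {F : Type*} [Field F]

/-- The Fermat polynomial `1 + ∑ X_i ^ m` in `n` variables. -/
noncomputable def fer (F : Type*) [Field F] (m n : ℕ) : MvPolynomial (Fin n) F := 1 + ∑ i : Fin n, X i ^ m

theorem squarefree_fer (m n : ℕ) (hm : (m : F) ≠ 0) : Squarefree (fer F m n) := by
  intro p hp
  obtain ⟨g, hg⟩ := hp
  have h1 : ∀ i : Fin n, p ∣ X i ^ m := by
    intro i
    have hm0 : m ≠ 0 := by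
      rintro rfl
      simp at hm
    have h2 : pderiv i (fer F m n) = C (m : F) * X i ^ (m - 1) := by
      unfold fer
      rw [map_add, map_sum]
      have h0 : pderiv i (1 : MvPolynomial (Fin n) F) = 0 := pderiv_one
      rw [h0, zero_add, Finset.sum_eq_single i]
      · rw [pderiv_pow, pderiv_X_self]
        simp
      · intro j _ hj
        rw [pderiv_pow, pderiv_X_of_ne hj]
        simp
      · intro h
        exact absurd (Finset.mem_univ _) h
    have h3 : p ∣ pderiv i (fer F m n) := by
      rw [hg, Derivation.leibniz, Derivation.leibniz]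
      simp only [smul_eq_mul]
      refine dvd_add (Dvd.intro _ (by ring : p * (p * pderiv i g) = p * p * pderiv i g)) ?_
      exact Dvd.intro (g * (2 * pderiv i p)) (by ring)
    rw [h2] at h3
    have h4 : p ∣ X i ^ (m - 1) := by
      have : (X i ^ (m - 1) : MvPolynomial (Fin n) F) = C ((m : F)⁻¹) * (C (m : F) * X i ^ (m - 1)) := by
        rw [← mul_assoc, ← C_mul, inv_mul_cancel₀ hm, C_1, one_mul]
      rw [this]
      exact Dvd.dvd.mul_left h3 _
    calc p ∣ X i ^ (m - 1) := h4
      _ ∣ X i ^ m := pow_dvd_pow _ (Nat.sub_le _ _)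
  have h5 : p ∣ fer F m n := by
    rw [hg, mul_assoc]
    exact Dvd.intro _ rfl
  have h6 : p ∣ 1 := by
    have : (1 : MvPolynomial (Fin n) F) = fer F m n - ∑ i : Fin n, X i ^ m := by
      unfold fer
      ring
    rw [this]
    exact dvd_sub h5 (Finset.dvd_sum fun i _ => h1 i)
  exact isUnit_of_dvd_one h6

theorem finSuccEquiv_fer (m n : ℕ) :
    finSuccEquiv F n (fer F m (n + 1)) = Polynomial.X ^ m + Polynomial.C (fer F m n) := by
  unfold fer
  rw [map_add, map_one, map_sum, Fin.sum_univ_succ]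
  simp only [map_pow, finSuccEquiv_X_zero, finSuccEquiv_X_succ, map_add, map_one, map_sum]
  ring

theorem not_isUnit_fer (m n : ℕ) (hm : m ≠ 0) (hn : n ≠ 0) : ¬ IsUnit (fer F m n) := by
  obtain ⟨n, rfl⟩ := Nat.exists_eq_succ_of_ne_zero hn
  intro h
  have h1 : IsUnit (finSuccEquiv F n (fer F m (n + 1))) := h.map _
  rw [finSuccEquiv_fer] at h1
  have h2 := Polynomial.natDegree_eq_zero_of_isUnit h1
  rw [Polynomial.natDegree_X_pow_add_C] at h2
  exact hm h2

theorem irreducible_fer_succ (m n : ℕ) (hm : (m : F) ≠ 0) (hn : n ≠ 0) :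
    Irreducible (fer F m (n + 1)) := by
  have hm0 : m ≠ 0 := by
    rintro rfl
    simp at hm
  rw [← MulEquiv.irreducible_iff (finSuccEquiv F n), finSuccEquiv_fer]
  have hsq := squarefree_fer (F := F) m n hm
  have hnz : fer F m n ≠ 0 := hsq.ne_zero
  obtain ⟨p, hp, hpd⟩ := WfDvdMonoid.exists_irreducible_factor (not_isUnit_fer (F := F) m n hm0 hn) hnz
  have hprime : Prime p := hp.prime
  have hP : (Ideal.span {p}).IsPrime := (Ideal.span_singleton_prime hprime.ne_zero).2 hprime
  have hmonic : (Polynomial.X ^ m + Polynomial.C (fer F m n)).Monic :=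
    Polynomial.monic_X_pow_add_C _ hm0
  have hdeg : (Polynomial.X ^ m + Polynomial.C (fer F m n)).degree = (m : WithBot ℕ) :=
    Polynomial.degree_X_pow_add_C (Nat.pos_of_ne_zero hm0) _
  refine Polynomial.irreducible_of_eisenstein_criterion hP ?_ ?_ ?_ ?_ hmonic.isPrimitive
  · rw [hmonic.leadingCoeff]
    exact fun h => hP.ne_top ((Ideal.eq_top_iff_one _).2 h)
  · intro i hi
    rw [hdeg] at hi
    have hi' : i < m := by exact_mod_cast hi
    rw [Polynomial.coeff_add, Polynomial.coeff_X_pow, if_neg hi'.ne, zero_add, Polynomial.coeff_C]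
    split_ifs
    · exact Ideal.mem_span_singleton.2 hpd
    · exact Ideal.zero_mem _
  · rw [hdeg]
    exact_mod_cast Nat.pos_of_ne_zero hm0
  · rw [Polynomial.coeff_add, Polynomial.coeff_X_pow, if_neg (Ne.symm hm0), zero_add,
      Polynomial.coeff_C_zero, Ideal.span_singleton_pow, Ideal.mem_span_singleton, pow_two]
    intro h
    exact hp.not_isUnit (hsq p h)

theorem irreducible_fer (m n : ℕ) (hm : (m : F) ≠ 0) (hn : 2 ≤ n) : Irreducible (fer F m n) := by
  obtain ⟨n, rfl⟩ := Nat.exists_eq_add_of_le' hn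
  exact irreducible_fer_succ m (n + 1) hm (by omega)

/-- The coordinate ring of the torus part of the Fermat hypersurface. -/
abbrev FerAlg (F : Type*) [Field F] (m n : ℕ) : Type _ :=
  Localization.Away (∏ i : Fin n, X i : MvPolynomial (Fin n) F) ⧸
    Ideal.span {algebraMap (MvPolynomial (Fin n) F)
      (Localization.Away (∏ i : Fin n, X i : MvPolynomial (Fin n) F)) (fer F m n)}

theorem not_dvd_X (m n : ℕ) (hm : (m : F) ≠ 0) (hn : n ≠ 0) (i : Fin n) : ¬ (fer F m n ∣ X i) := by
  have hm0 : m ≠ 0 := by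
    rintro rfl
    simp at hm
  intro h
  have hX : Irreducible (X i : MvPolynomial (Fin n) F) := (MvPolynomial.X_prime (R := F) (i := i)).irreducible
  have h1 : Associated (fer F m n) (X i) := by
    rcases (hX.dvd_iff).1 h with h2 | h2
    · exact absurd h2 (not_isUnit_fer m n hm0 hn)
    · exact h2.symm
  obtain ⟨g, hg⟩ := h1.symm.dvd
  have h3 := congrArg (aeval (fun _ : Fin n => (0 : F))) hg
  unfold fer at h3
  simp [zero_pow hm0] at h3

theorem isDomain_ferAlg (m n : ℕ) (hm : (m : F) ≠ 0) (hn : 2 ≤ n) : IsDomain (FerAlg F m n) := by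
  have hp : Prime (fer F m n) := (irreducible_fer m n hm hn).prime
  have h1 : (Ideal.span {fer F m n}).IsPrime := (Ideal.span_singleton_prime hp.ne_zero).2 hp
  have h2 : Disjoint (Submonoid.powers (∏ i : Fin n, X i : MvPolynomial (Fin n) F) : Set (MvPolynomial (Fin n) F))
      (Ideal.span {fer F m n} : Set (MvPolynomial (Fin n) F)) := by
    rw [Set.disjoint_left]
    rintro _ ⟨r, rfl⟩ h3
    have h4 : fer F m n ∣ (∏ i : Fin n, X i : MvPolynomial (Fin n) F) ^ r :=
      Ideal.mem_span_singleton.1 h3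
    obtain ⟨i, -, h6⟩ := (Prime.dvd_finsetProd_iff hp _).1 (hp.dvd_of_dvd_pow h4)
    exact not_dvd_X m n hm (by omega) i h6
  have h3 := IsLocalization.isPrime_of_isPrime_disjoint
    (Submonoid.powers (∏ i : Fin n, X i : MvPolynomial (Fin n) F))
    (Localization.Away (∏ i : Fin n, X i : MvPolynomial (Fin n) F)) _ h1 h2
  rw [Ideal.map_span, Set.image_singleton] at h3
  exact Ideal.Quotient.isDomain _

end Groth.Agent.Sga4h.H931.Irred
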