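import Groth.Agent.Sga4h.H299.KunF
import Groth.Agent.Sga4h.H918.Lang
import Mathlib.CategoryTheory.Monoidal.Skeleton

/-!
# Isomorphism classes of sheaves of modules

* `Pc Λ X`: the commutative monoid of isomorphism classes of `EtModW.Mod Λ X` under tensor product;
* `cls M`: the class of `M`; `pb f`: inverse image;
* `clsF`: the class of `F_θ(f, u)`; additivity in `(f, u)` and in `θ`, inverse images, triviality.
-/

set_option autoImplicit false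
universe u
open CategoryTheory CategoryTheory.Limits AlgebraicGeometry Opposite MonoidalCategory

namespace Groth.Agent.Sga4h.H931.Pic

open Groth.Agent.Sga4h.H299 Groth.Agent.Sga4h.H918
open scoped Groth.Agent.Sga5.H835.MonEt

variable {Λ : Type (u + 1)} [CommRing Λ] {X Y Z : Scheme.{u}}

/-- Isomorphism classes of sheaves of modules. -/
abbrev Pc (Λ : Type (u + 1)) [CommRing Λ] (X : Scheme.{u}) : Type _ := Skeleton (EtModW.Mod Λ X)

/-- The class of a sheaf of modules. -/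
noncomputable def cls (M : EtModW.Mod Λ X) : Pc Λ X := toSkeleton M

theorem cls_eq_iff {M N : EtModW.Mod Λ X} : cls M = cls N ↔ Nonempty (M ≅ N) := toSkeleton_eq_toSkeleton_iff

theorem cls_eq {M N : EtModW.Mod Λ X} (h : Nonempty (M ≅ N)) : cls M = cls N := cls_eq_iff.2 h

theorem exists_cls (c : Pc Λ X) : ∃ M, cls M = c := ⟨Quotient.out c, Quotient.out_eq c⟩

theorem cls_T (M N : EtModW.Mod Λ X) : cls ((Proj.T M).obj N) = cls M * cls N :=
  Skeleton.toSkeleton_tensorObj M N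

theorem cls_const : cls (EtModW.constMod Λ X Λ) = 1 := rfl

/-- The chosen representative of the class of `M` is isomorphic to `M`. -/
theorem nonempty_out (M : EtModW.Mod Λ X) : Nonempty ((Quotient.out (cls M) : EtModW.Mod Λ X) ≅ M) :=
  Quotient.mk_out (s := isIsomorphicSetoid _) M

/-- Inverse image of a class. -/
noncomputable def pbFun (f : X ⟶ Y) (c : Pc Λ Y) : Pc Λ X := cls ((EtModW.pull Λ f).obj (Quotient.out c))

theorem pbFun_cls (f : X ⟶ Y) (M : EtModW.Mod Λ Y) : pbFun f (cls M) = cls ((EtModW.pull Λ f).obj M) := by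
  exact cls_eq ⟨(EtModW.pull Λ f).mapIso (nonempty_out M).some⟩

/-- Inverse image as a homomorphism. -/
noncomputable def pb (f : X ⟶ Y) : Pc Λ Y →* Pc Λ X where
  toFun := pbFun f
  map_one' := by
    rw [← cls_const, pbFun_cls]
    exact cls_eq ⟨FixPt.pullUnit f⟩
  map_mul' c d := by
    obtain ⟨M, rfl⟩ := exists_cls c
    obtain ⟨N, rfl⟩ := exists_cls d
    rw [← cls_T, pbFun_cls, pbFun_cls, pbFun_cls, ← cls_T]
    exact cls_eq ⟨(Proj.pullT f M).app N⟩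

theorem pb_cls (f : X ⟶ Y) (M : EtModW.Mod Λ Y) : pb f (cls M) = cls ((EtModW.pull Λ f).obj M) := pbFun_cls f M

theorem pb_comp (f : X ⟶ Y) (g : Y ⟶ Z) (c : Pc Λ Z) : pb (f ≫ g) c = pb f (pb g c) := by
  obtain ⟨M, rfl⟩ := exists_cls c
  rw [pb_cls, pb_cls, pb_cls]
  exact cls_eq ⟨((Groth.Agent.Etcore.LPullComp.pullComp Λ f g).app M).symm⟩

theorem pb_id (c : Pc Λ X) : pb (𝟙 X) c = c := by
  obtain ⟨M, rfl⟩ := exists_cls c
  rw [pb_cls]
  exact cls_eq ⟨(Groth.Agent.Etcore.LPullComp.pullId Λ X).app M⟩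

section Rank

variable {k : Type*} [Field k] [Fintype k]

/-- The class of `F_θ(f, u)`. -/
noncomputable def clsF (ρ : k →+* Γ(X, ⊤)) (θ : Ask.GG k →* Λˣ) (f : Γ(X, ⊤)) (u : Γ(X, ⊤)ˣ) : Pc Λ X :=
  cls (Lang.F ρ θ f (u : Γ(X, ⊤)) u.isUnit)

variable {ρ : k →+* Γ(X, ⊤)}

theorem clsF_mul (θ : Ask.GG k →* Λˣ) (f f' : Γ(X, ⊤)) (u u' : Γ(X, ⊤)ˣ) :
    clsF ρ θ (f + f') (u * u') = clsF ρ θ f u * clsF ρ θ f' u' := by
  unfold clsF
  rw [← cls_T]
  exact cls_eq (Lang.mulF ρ θ u.isUnit u'.isUnit)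

theorem clsF_char (θ θ' : Ask.GG k →* Λˣ) (f : Γ(X, ⊤)) (u : Γ(X, ⊤)ˣ) :
    clsF ρ (θ * θ') f u = clsF ρ θ f u * clsF ρ θ' f u := by
  unfold clsF
  rw [← cls_T]
  exact cls_eq (Lang.charF θ θ' u.isUnit)

theorem pb_clsF (g : Y ⟶ X) (θ : Ask.GG k →* Λˣ) (f : Γ(X, ⊤)) (u : Γ(X, ⊤)ˣ) :
    pb g (clsF ρ θ f u) = clsF (g.appTop.hom.comp ρ) θ (g.appTop.hom f) (Units.map g.appTop.hom u) := by
  unfold clsF
  rw [pb_cls]
  exact cls_eq (Lang.pullF g θ u.isUnit)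

theorem clsF_left (θ : Ask.GG k →* Λˣ) (hθ : ∀ d : kˣ, θ (1, d) = 1) (u : Γ(X, ⊤)ˣ) : clsF ρ θ 0 u = 1 :=
  cls_eq (Lang.trivF_left θ hθ u.isUnit)

theorem clsF_right (θ : Ask.GG k →* Λˣ) (hθ : ∀ c : Multiplicative k, θ (c, 1) = 1) : clsF ρ θ 0 1 = 1 := by
  have h : clsF ρ θ 0 (1 * 1) = clsF ρ θ 0 1 * clsF ρ θ 0 1 := by
    rw [← clsF_mul, add_zero]
  exact cls_eq (Lang.trivF_right θ hθ)

theorem clsF_right' (θ : Ask.GG k →* Λˣ) (hθ : ∀ c : Multiplicative k, θ (c, 1) = 1) (f : Γ(X, ⊤)) :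
    clsF ρ θ f 1 = 1 :=
  cls_eq (Lang.trivF_right θ hθ)

end Rank

end Groth.Agent.Sga4h.H931.Pic
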