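import Groth.Agent.Sga4h.H917.TraceFun
import Groth.Agent.Sga4h.H917.ModLam
import Groth.Agent.Sga4h.H768.KumBc
import Groth.Agent.Sga4h.H299.LamMod
import Groth.Agent.Sga4h.H931.Arith
import Groth.Agent.Sga4h.H931.Pic
import Groth.Agent.Sga4h.H931.JacPts

/-!
# The sheaf of S4264 is not geometrically constant
-/

set_option autoImplicit false
universe u
open CategoryTheory CategoryTheory.Limits AlgebraicGeometry Opposite
open MvPolynomial
open scoped Groth.Agent.Sga5.H835.MonEt

namespace Groth.Agent.Sga4h.H931.NonTriv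

open Groth.Agent.Sga4h.H931.KumDom Groth.Agent.Sga4h.H931.JacPts Groth.Agent.Sga4h.H931.Pic
  Groth.Agent.Sga4h.H299.LamMod Groth.Agent.Sga4h.H917.ModLam Groth.Agent.Sga4h.H768.KumBc

theorem isDomain_jac (F : Type*) [Field F] (n : ℕ) (hn : 2 ≤ n) : IsDomain (JacAlg F n) := by
  have h1 : IsDomain (KF (JacAlg F n) 1 (xc F n)) := isDomain_kf F 1 n (by simp) hn
  let r : KF (JacAlg F n) 1 (xc F n) →+* JacAlg F n := Ideal.Quotient.lift _
    (eval₂Hom (RingHom.id _) (xc F n)) (by
      intro a ha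
      rw [← RingHom.mem_ker]
      refine (Ideal.span_le.2 ?_) ha
      rintro _ ⟨i, rfl⟩
      simp [RingHom.mem_ker])
  have h2 : Function.Injective (algebraMap (JacAlg F n) (KF (JacAlg F n) 1 (xc F n))) := by
    refine Function.LeftInverse.injective (g := r) fun a => ?_
    change r (Ideal.Quotient.mk _ (C a)) = a
    simp [r]
  exact h2.isDomain _

theorem connectedSpace_spec (R : Type u) [CommRing R] [IsDomain R] : ConnectedSpace (Spec (CommRingCat.of R)) := by
  have : IrreducibleSpace (Spec (CommRingCat.of R)) := inferInstanceAs (IrreducibleSpace (PrimeSpectrum R))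
  infer_instance

theorem connectedSpace_of_iso {X Y : Scheme.{u}} (e : X ≅ Y) [ConnectedSpace Y] : ConnectedSpace X :=
  (e.inv.homeomorph.surjective.connectedSpace e.inv.homeomorph.continuous)

variable {Λ : Type} [Field Λ]

/-- `IsConstOn` from an isomorphism of sheaves of modules. -/
theorem isConstOn_of_nonempty {X Y : Scheme.{u}} (π : Y ⟶ X) (L : EtLam.Sheaf Λ X)
    (h : Nonempty ((EtModW.pull (UL.{u} Λ) π).obj (toMod L) ≅ EtModW.constMod (UL.{u} Λ) Y (UL.{u} Λ))) :
    LangSh.IsConstOn π L := by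
  obtain ⟨e, he⟩ := isConstOn_ofMod π (toMod L) h
  refine ⟨e, fun r => ?_⟩
  have h1 : (ofMod (toMod L)).act r = L.act r := by
    apply Sheaf.hom_ext
    rfl
  rw [← h1]
  exact he r

section

variable (k K : Type u) [Field k] [Fintype k] [Field K] [Algebra k K] (N : ℕ)

/-- The projection `Spec (JacAlg K N) ⟶ Spec (JacAlg k N)`. -/
noncomputable abbrev gK : Spec (CommRingCat.of (JacAlg K N)) ⟶ Spec (CommRingCat.of (JacAlg k N)) :=
  Spec.map (CommRingCat.ofHom (jacMap (algebraMap k K) N))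

variable {k K N}

theorem cls_ne_one [IsAlgClosed K] [Algebra.IsAlgebraic k K] [Fact FinFr.PullExact.{u}] (hN : 2 ≤ N)
    (χ : Fin N → MulChar k Λ) (hχ : ∃ i, χ i ≠ 1) (v : Fin N → (JacAlg k N)ˣ)
    (hv : ∀ i, (v i : JacAlg k N) = xc k N i) (L : EtLam.Sheaf Λ (Spec (CommRingCat.of (JacAlg k N))))
    (hL : LangSh.IsKumFamSheaf K χ v L) :
    cls ((EtModW.pull (UL.{u} Λ) (gK k K N)).obj (toMod L)) ≠ 1 := by
  intro h
  obtain ⟨i, hi⟩ := hχ
  have hdom := isDomain_jac K N hN
  have hcon := connectedSpace_spec (JacAlg K N)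
  have hcon2 : ConnectedSpace (FinFr.ext K (Spec.map (CommRingCat.ofHom (algebraMap k (JacAlg k N))))) :=
    connectedSpace_of_iso (extIso k K N)
  have hc : LangSh.IsConstOn (FinFr.extπ K (Spec.map (CommRingCat.ofHom (algebraMap k (JacAlg k N))))) L := by
    apply isConstOn_of_nonempty
    rw [← cls_eq_iff, cls_const, ← pb_cls, ← extIso_hom_π, pb_comp, pb_cls (gK k K N), h, map_one]
  obtain ⟨c, hc⟩ := Groth.Agent.Sga4h.H917.TraceFun.exists_locTrace_eq (K := K) _ L hc
  apply hi
  refine Groth.Agent.Sga4h.H931.Arith.mulChar_eq_one (K := K) hN χ (fun E hE x y hx hy => ?_) i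
  have := Fintype.ofFinite E
  have key : ∀ x : Fin N → Eˣ, ∑ i, (x i : E) = -1 →
      ∏ i, χ i (Algebra.norm k (x i : E)) = c ^ Module.finrank k E := by
    intro x hx
    have hx' : 1 + ∑ i, (x i : E) = 0 := by rw [hx]; ring
    let p : JacAlg k N →ₐ[k] E := jacPt (k := k) (fun i => (x i : E)) (fun i => (x i).isUnit) hx'
    have hp : ∀ i, p (v i : JacAlg k N) = (x i : E) := fun i => by
      rw [hv]
      exact jacPt_xc (k := k) (fun i => (x i : E)) (fun i => (x i).isUnit) hx' i
    have h1 := hL.2 E p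
    have h0 : LangSh.pt p ≫ Spec.map (CommRingCat.ofHom (algebraMap k (JacAlg k N))) =
        Spec.map (CommRingCat.ofHom (algebraMap k E)) := by
      rw [LangSh.pt, ← Spec.map_comp, ← CommRingCat.ofHom_comp]
      have h3 : p.toRingHom.comp (algebraMap k (JacAlg k N)) = algebraMap k E := RingHom.ext fun a => p.commutes a
      rw [h3]
    have h2 := hc E (LangSh.pt p) h0
    rw [← h2, h1]
    refine Finset.prod_congr rfl fun i _ => ?_
    rw [hp]
  rw [key x hx, key y hy]

end

end Groth.Agent.Sga4h.H931.NonTriv
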