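import Groth.Agent.Sga4h.H931.HcKun
import Groth.Agent.Sga4h.H931.NonTriv
import Mathlib.LinearAlgebra.Dimension.FreeAndStrongRankCondition

/-!
# From `hc` over `K` to the frozen cohomology groups of S4264
-/

set_option autoImplicit false
universe u
open CategoryTheory CategoryTheory.Limits AlgebraicGeometry Opposite
open scoped Groth.Agent.Sga5.H835.MonEt

namespace Groth.Agent.Sga4h.H931.Trans

open Groth.Agent.Sga4h.H931.KumDom Groth.Agent.Sga4h.H931.Pic Groth.Agent.Sga4h.H931.HcCls
  Groth.Agent.Sga4h.H931.HcKun Groth.Agent.Sga4h.H299 Groth.Agent.Sga4h.H299.LamMod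
  Groth.Agent.Sga4h.H768.KumBc Groth.Agent.Sga4h.H931.NonTriv

theorem finrank_of_card {Λ : Type*} [Field Λ] [Finite Λ] {V : Type*} [AddCommGroup V] [Module Λ V]
    (h : Nat.card V = Nat.card Λ) : Module.finrank Λ V = 1 := by
  have h0 : Nat.card V ≠ 0 := by
    rw [h]
    exact Nat.card_pos.ne'
  have hV : Finite V := Nat.finite_of_card_ne_zero h0
  have h1 : Nat.card V = Nat.card Λ ^ Module.finrank Λ V := Module.natCard_eq_pow_finrank
  exact Nat.pow_right_injective (Finite.one_lt_card (α := Λ)) (h1.symm.trans (h.trans (pow_one _).symm))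

theorem good_jac (K : Type u) [Field K] (N : ℕ) :
    Good (Spec.map (CommRingCat.ofHom (algebraMap K (JacAlg K N)))) := by
  have h : LocallyOfFiniteType (Spec.map (CommRingCat.ofHom (algebraMap K (JacAlg K N)))) := by
    rw [HasRingHomProperty.Spec_iff (P := @LocallyOfFiniteType)]
    change (algebraMap K (JacAlg K N)).FiniteType
    rw [RingHom.finiteType_algebraMap]
    have h1 : Algebra.FiniteType K (Localization.Away (∏ i : Fin N, MvPolynomial.X i : MvPolynomial (Fin N) K)) :=
      Algebra.FiniteType.trans (S := MvPolynomial (Fin N) K) inferInstance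
        (IsLocalization.finiteType_of_monoid_fg (Submonoid.powers (∏ i : Fin N, MvPolynomial.X i : MvPolynomial (Fin N) K)) _)
    exact Algebra.FiniteType.of_surjective (Ideal.Quotient.mkₐ K _) (Ideal.Quotient.mkₐ_surjective K _)
  exact good_of _

variable {k K : Type u} [Field k] [Field K] [Algebra k K] [IsSepClosed K]

theorem transfer {Λ : Type} [Field Λ] [Finite Λ] (N : ℕ) (hN : 1 ≤ N)
    (L : EtLam.Sheaf Λ (Spec (CommRingCat.of (JacAlg k N))))
    {P₀ : Scheme.{u}} (j : Spec (CommRingCat.of (JacAlg k N)) ⟶ P₀) [IsOpenImmersion j]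
    (b : P₀ ⟶ Spec (CommRingCat.of k)) [IsProper b]
    (hj : j ≫ b = Spec.map (CommRingCat.ofHom (algebraMap k (JacAlg k N))))
    (h : ∀ m, hc (Spec.map (CommRingCat.ofHom (algebraMap K (JacAlg K N))))
      (cls ((EtModW.pull (UL.{u} Λ) (gK k K N)).obj (toMod L))) m = if m + 1 = N then Nat.card (UL.{u} Λ) else 1) :
    (∀ i : ℕ, i ≠ N - 1 → Subsingleton (EtCoh.H (FinFr.ext K b) (EtLam.pullback (FinFr.extπ K b) (FinFr.extZeroLam j L)).carrier i)) ∧
      Module.finrank Λ (EtCoh.H (FinFr.ext K b) (EtLam.pullback (FinFr.extπ K b) (FinFr.extZeroLam j L)).carrier (N - 1)) = 1 := by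
  have hg := good_jac K N
  have hqc : QuasiCompact j := by
    have h1 : QuasiCompact (j ≫ b) := by
      rw [hj]
      infer_instance
    exact QuasiCompact.of_comp j b
  obtain ⟨C⟩ := nonempty_cpt (Spec.map (CommRingCat.ofHom (algebraMap K (JacAlg K N))))
  have := C.qc
  obtain ⟨n, hn0, hn⟩ := Tors.ex (Λ := Λ)
  have key : ∀ m, Nat.card (EtCoh.H (FinFr.ext K b) (EtLam.pullback (FinFr.extπ K b) (FinFr.extZeroLam j L)).carrier m) =
      if m + 1 = N then Nat.card Λ else 1 := by
    intro m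
    obtain ⟨e⟩ := HcK.nonempty_hcK' (K := K) hn0 hn j hj (isPullback_jac (algebraMap k K) N) C.j C.p C.w L m
    rw [Nat.card_congr e.toEquiv, ← hc_cls C.j C.p C.w, h m, Nat.card_congr (Equiv.ulift (α := Λ))]
  refine ⟨fun i hi => ?_, finrank_of_card ?_⟩
  · have h1 := key i
    rw [if_neg (by omega)] at h1
    exact card_eq_one.1 h1
  · rw [key, if_pos (by omega)]

end Groth.Agent.Sga4h.H931.Trans
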